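import Mathlib.LinearAlgebra.Matrix.GeneralLinearGroup.Defs
import Mathlib.LinearAlgebra.Matrix.ToLin
import Mathlib.LinearAlgebra.GeneralLinearGroup.Basic
import Mathlib.RingTheory.RootsOfUnity.PrimitiveRoots
import Mathlib.GroupTheory.OrderOfElement
import Mathlib.Algebra.Group.Subgroup.Finite
import Mathlib.Algebra.Group.Int.TypeTags
import Mathlib.Algebra.Module.Equiv.Basic
import Mathlib.Algebra.Group.Subgroup.Map
import Mathlib.RingTheory.Int.Basic
import Mathlib.Data.Int.GCD
import Mathlib.RingTheory.PrincipalIdealDomain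
import Mathlib.GroupTheory.Archimedean

/-!
# Lattices with an action of a finite group
-/

set_option autoImplicit false

namespace K843.Lattice

/-- Automorphisms of a lattice as elements of `GL_n(ℤ)`. -/
noncomputable def toGL {M : Type*} [CommGroup M] {n : ℕ} (e : M ≃* Multiplicative (Fin n → ℤ)) :
    MulAut M →* Matrix.GeneralLinearGroup (Fin n) ℤ :=
  (Matrix.GeneralLinearGroup.toLin (n := Fin n) (R := ℤ)).symm.toMonoidHom.comp
    ((LinearMap.GeneralLinearGroup.generalLinearEquiv ℤ (Fin n → ℤ)).symm.toMonoidHom.comp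
      { toFun := fun α => (MulEquiv.toAdditive ((e.symm.trans α).trans e) :
            (Fin n → ℤ) ≃+ (Fin n → ℤ)).toIntLinearEquiv
        map_one' := by
          apply LinearEquiv.ext
          intro v
          change Multiplicative.toAdd (e (e.symm (Multiplicative.ofAdd v))) = v
          rw [MulEquiv.apply_symm_apply]; rfl
        map_mul' := fun α β => by
          apply LinearEquiv.ext
          intro v
          change Multiplicative.toAdd (e ((α * β) (e.symm (Multiplicative.ofAdd v)))) =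
            Multiplicative.toAdd (e (α (e.symm (Multiplicative.ofAdd (Multiplicative.toAdd
              (e (β (e.symm (Multiplicative.ofAdd v)))))))))
          simp })

theorem toGL_injective {M : Type*} [CommGroup M] {n : ℕ} (e : M ≃* Multiplicative (Fin n → ℤ)) :
    Function.Injective (toGL e) := by
  unfold toGL
  rw [MonoidHom.coe_comp, MonoidHom.coe_comp]
  refine (MulEquiv.injective _).comp ((MulEquiv.injective _).comp ?_)
  intro α β h
  ext m
  have h1 := congrArg (fun f : (Fin n → ℤ) ≃ₗ[ℤ] (Fin n → ℤ) => f (Multiplicative.toAdd (e m))) h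
  change Multiplicative.toAdd (e (α (e.symm (Multiplicative.ofAdd (Multiplicative.toAdd (e m)))))) =
    Multiplicative.toAdd (e (β (e.symm (Multiplicative.ofAdd (Multiplicative.toAdd (e m)))))) at h1
  simpa using h1

theorem exists_phi {M : Type*} [CommGroup M] {n : ℕ} (e : M ≃* Multiplicative (Fin n → ℤ))
    {L : Type*} [Field L] (d : ℕ) (hd : 0 < d) (ζ : L) (hζ : IsPrimitiveRoot ζ d) (θ : M →* L)
    (hθ : ∀ m, θ m ^ d = 1) :
    ∃ φ : M →* Multiplicative ℤ, ∀ m, θ m = ζ ^ (Multiplicative.toAdd (φ m)) := by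
  classical
  have : NeZero d := ⟨hd.ne'⟩
  have hζ0 : ζ ≠ 0 := hζ.ne_zero hd.ne'
  -- the values on the basis
  let v : Fin n → M := fun i => e.symm (Multiplicative.ofAdd (Pi.single i 1))
  have hk : ∀ i, ∃ k : ℕ, ζ ^ k = θ (v i) := by
    intro i
    obtain ⟨k, _, hk⟩ := hζ.eq_pow_of_pow_eq_one (hθ (v i))
    exact ⟨k, hk⟩
  choose k hk using hk
  let φ₀ : (Fin n → ℤ) →+ ℤ := ∑ i, (k i : ℤ) • (Pi.evalAddMonoidHom (fun _ : Fin n => ℤ) i)
  let φ : M →* Multiplicative ℤ := (AddMonoidHom.toMultiplicative φ₀).comp e.toMonoidHom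
  refine ⟨φ, ?_⟩
  -- compare two homs to `Lˣ`
  let u : Lˣ := Units.mk0 ζ hζ0
  let θu : M →* Lˣ := θ.toHomUnits
  let ρ : M →* Lˣ := (zpowersHom Lˣ u).comp φ
  have heq : θu = ρ := by
    have h1 : θu.comp e.symm.toMonoidHom = ρ.comp e.symm.toMonoidHom := by
      apply MonoidHom.toAdditiveRight.injective
      apply AddMonoidHom.functions_ext
      intro i x
      have h3 : (MonoidHom.toAdditiveRight (θu.comp e.symm.toMonoidHom)).comp
          (AddMonoidHom.single (fun _ : Fin n => ℤ) i) =
          (MonoidHom.toAdditiveRight (ρ.comp e.symm.toMonoidHom)).comp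
          (AddMonoidHom.single (fun _ : Fin n => ℤ) i) := by
        apply AddMonoidHom.ext_int
        apply Additive.toMul.injective
        apply Units.ext
        change θ (v i) = ((u ^ (Multiplicative.toAdd (φ (v i))) : Lˣ) : L)
        have h4 : Multiplicative.toAdd (φ (v i)) = (k i : ℤ) := by
          change φ₀ (Multiplicative.toAdd (e (v i))) = _
          simp [φ₀, v, Pi.single_apply]
        rw [h4, zpow_natCast, Units.val_pow_eq_pow_val, Units.val_mk0, hk]
      exact congrArg (fun f : ℤ →+ Additive Lˣ => f x) h3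
    ext m
    have h2 := congrArg (fun f : Multiplicative (Fin n → ℤ) →* Lˣ => f (e m)) h1
    simpa using congrArg Units.val h2
  intro m
  have := congrArg (fun f : M →* Lˣ => ((f m : Lˣ) : L)) heq
  simpa [θu, ρ, u, zpowersHom_apply] using this

/-- A non-zero homomorphism to `ℤ` is a multiple of a surjective one. -/
theorem exists_surjective {M : Type*} [CommGroup M] (φ : M →* Multiplicative ℤ) (h : ∃ m, φ m ≠ 1) :
    ∃ (c : ℤ) (ψ : M →* Multiplicative ℤ), c ≠ 0 ∧ Function.Surjective ψ ∧
      ∀ m, Multiplicative.toAdd (φ m) = c * Multiplicative.toAdd (ψ m) := by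
  let φ' : Additive M →+ ℤ := MonoidHom.toAdditiveLeft φ
  have hφ' : ∀ m : M, φ' (Additive.ofMul m) = Multiplicative.toAdd (φ m) := fun _ => rfl
  obtain ⟨c, hc⟩ := Int.subgroup_cyclic φ'.range
  rw [← AddSubgroup.zmultiples_eq_closure] at hc
  have hdvd : ∀ m : M, c ∣ Multiplicative.toAdd (φ m) := by
    intro m
    have h1 : Multiplicative.toAdd (φ m) ∈ φ'.range := ⟨Additive.ofMul m, rfl⟩
    rw [hc, AddSubgroup.mem_zmultiples_iff] at h1
    obtain ⟨k, hk⟩ := h1
    exact ⟨k, by rw [← hk, smul_eq_mul, mul_comm]⟩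
  have hc0 : c ≠ 0 := by
    rintro rfl
    obtain ⟨m, hm⟩ := h
    apply hm
    have h1 := hdvd m
    rw [zero_dvd_iff] at h1
    exact Multiplicative.toAdd.injective h1
  choose k hk using hdvd
  let ψ : M →* Multiplicative ℤ :=
    { toFun := fun m => Multiplicative.ofAdd (k m)
      map_one' := by
        have h1 := hk 1
        rw [map_one, toAdd_one] at h1
        have h2 : k 1 = 0 := by
          rcases mul_eq_zero.mp h1.symm with h | h
          · exact absurd h hc0
          · exact h
        rw [h2]; rfl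
      map_mul' := fun a b => by
        have h1 := hk (a * b)
        rw [map_mul, toAdd_mul, hk a, hk b, ← mul_add] at h1
        rw [← mul_left_cancel₀ hc0 h1]
        rfl }
  refine ⟨c, ψ, hc0, ?_, hk⟩
  -- surjectivity
  have h1 : c ∈ φ'.range := by rw [hc]; exact AddSubgroup.mem_zmultiples c
  obtain ⟨m₁, hm₁⟩ := h1
  have h2 : k (Additive.toMul m₁) = 1 := by
    have h3 := hk (Additive.toMul m₁)
    have h4 : Multiplicative.toAdd (φ (Additive.toMul m₁)) = c := hm₁
    rw [h4] at h3
    have h5 : c * 1 = c * k (Additive.toMul m₁) := by rw [mul_one]; exact h3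
    exact (mul_left_cancel₀ hc0 h5).symm
  intro z
  refine ⟨(Additive.toMul m₁) ^ (Multiplicative.toAdd z), ?_⟩
  rw [map_zpow]
  apply Multiplicative.toAdd.injective
  rw [toAdd_zpow]
  change _ • k (Additive.toMul m₁) = _
  rw [h2]; simp

/-- The averaging argument. -/
theorem exists_psi {M : Type*} [CommGroup M] {n : ℕ} (e : M ≃* Multiplicative (Fin n → ℤ))
    {L : Type*} [Field L] (d : ℕ) (hd : 0 < d) (ζ : L) (hζ : IsPrimitiveRoot ζ d) (θ : M →* L)
    (hθ : ∀ m, θ m ^ d = 1) (H : Subgroup (MulAut M)) [Finite H]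
    (hH : ∀ h ∈ H, ∀ m, θ (h m) = θ m) (hne : ∃ m, θ m ^ (Nat.card H) ≠ 1) :
    ∃ ψ : M →* Multiplicative ℤ, Function.Surjective ψ ∧ ∀ h ∈ H, ∀ m, ψ (h m) = ψ m := by
  classical
  obtain ⟨φ, hφ⟩ := exists_phi e d hd ζ hζ θ hθ
  have : Fintype H := Fintype.ofFinite H
  let N : M →* Multiplicative ℤ := ∏ h : H, φ.comp (h : MulAut M).toMonoidHom
  have hN : ∀ m, N m = ∏ h : H, φ ((h : MulAut M) m) := by
    intro m
    simp only [N, MonoidHom.finsetProd_apply]
    rfl
  have hNinv : ∀ h ∈ H, ∀ m, N (h m) = N m := by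
    intro h hh m
    rw [hN, hN]
    apply Fintype.prod_equiv (Equiv.mulRight (⟨h, hh⟩ : H))
    intro x
    rfl
  have hζ0 : ζ ≠ 0 := hζ.ne_zero hd.ne'
  have hNne : ∃ m, N m ≠ 1 := by
    obtain ⟨m, hm⟩ := hne
    refine ⟨m, fun h1 => hm ?_⟩
    have h2 : ζ ^ (Multiplicative.toAdd (N m)) = θ m ^ Nat.card H := by
      rw [hN, toAdd_prod]
      have h3 : ∀ s : Finset H, ζ ^ (∑ h ∈ s, Multiplicative.toAdd (φ ((h : MulAut M) m))) = θ m ^ s.card := by
        intro s
        induction s using Finset.induction_on with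
        | empty => simp
        | insert a s ha ih =>
          rw [Finset.sum_insert ha, zpow_add₀ hζ0, ih, Finset.card_insert_of_notMem ha, ← hφ,
            hH a.1 a.2, pow_succ, mul_comm]
      rw [h3, Finset.card_univ, Nat.card_eq_fintype_card]
    rw [← h2, h1, toAdd_one, zpow_zero]
  obtain ⟨c, ψ, hc, hs, hψ⟩ := exists_surjective N hNne
  refine ⟨ψ, hs, fun h hh m => ?_⟩
  apply Multiplicative.toAdd.injective
  apply mul_left_cancel₀ hc
  rw [← hψ, ← hψ, hNinv h hh]

end K843.Lattice
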