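import Groth.Agent.BddFin.K843.TorusDesc
import Groth.Agent.BddFin.K843.Lattice
import Groth.Agent.Sga3B.TorusEtLoc920
import Mathlib.RingTheory.Etale.Field
import Mathlib.FieldTheory.Normal.Closure

/-!
# Tori over a field split by a field extension: Hopf algebra, Galois splitting field, points
-/

set_option autoImplicit false
universe u

open CategoryTheory MonoidalCategory CartesianMonoidalCategory MonObj GrpObj AlgebraicGeometry Limits
open TensorProduct
open Groth.Agent.Books.AffBridge Groth.Agent.Books.AffBridge2 Groth.Agent.Sga3A Groth.Agent.Sga3A.MTBasis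
open Groth.Agent.Sga3B Groth.Agent.Sga3B.TorusEtLoc920

namespace K843.TorusMain

variable {K : Type u} [Field K]

/-- A group scheme which becomes a split torus over a field extension is a torus. -/
theorem isTorus_of_split {n : ℕ} (T : Over (Spec (CommRingCat.of K))) [GrpObj T]
    (L : Type u) [Field L] [Algebra K L]
    (hT : Red.IsSplitTorusWith (Fin n → ℤ) (Red.bc (Spec.map (CommRingCat.ofHom (algebraMap K L))) T)) :
    Red.IsTorus T := by
  let f := Spec.map (CommRingCat.ofHom (algebraMap K L))
  have hflat : Flat f := by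
    rw [HasRingHomProperty.Spec_iff (P := @Flat)]
    change (algebraMap K L).Flat
    rw [RingHom.flat_algebraMap_iff]
    infer_instance
  have hsurj : Surjective f := by
    constructor
    intro s
    refine ⟨IsLocalRing.closedPoint L, ?_⟩
    exact Subsingleton.elim _ _
  refine ⟨Spec (CommRingCat.of L), f, hflat, hsurj, ?_, ?_⟩
  · intro V hV
    refine ⟨f ⁻¹ᵁ V, ?_, ?_⟩
    · exact (hV.preimage f).isCompact
    · exact Set.image_preimage_eq _ f.surjective
  · intro s'
    refine ⟨⊤, trivial, n, ?_⟩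
    have h1 := TorusAlgClosed.isSplitTorusWith_bc (Scheme.Opens.ι (X := Spec (CommRingCat.of L)) ⊤) hT
    exact TorusBc.isSplitTorusWith_of_iso (BcIso.bcCompIso _ _ T).symm h1

/-- A separable finite extension in an étale algebra, and its Galois closure. -/
theorem exists_galois_of_etale (B : Type u) [CommRing B] [Algebra K B] [Nontrivial B] [Algebra.Etale K B]
    [Module.Finite K B] :
    ∃ (L : Type u) (_ : Field L) (_ : Algebra K L), FiniteDimensional K L ∧ IsGalois K L ∧ Nonempty (B →ₐ[K] L) := by
  obtain ⟨I, hI, Ai, iF, iA, e, hsep⟩ := (Algebra.FormallyEtale.iff_exists_algEquiv_prod K B).mp inferInstance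
  have hne : Nonempty I := by
    by_contra h
    rw [not_nonempty_iff] at h
    have : Subsingleton B := e.toEquiv.subsingleton
    exact not_subsingleton B this
  obtain ⟨i⟩ := hne
  let F := Ai i
  have hF : FiniteDimensional K F := by
    refine Module.Finite.of_surjective ((Pi.evalAlgHom K Ai i).comp (e : B →ₐ[K] (i : I) → Ai i)).toLinearMap ?_
    exact (Function.surjective_eval i).comp e.surjective
  have hs : Algebra.IsSeparable K F := hsep i
  let Ω := SeparableClosure K
  let φ : F →ₐ[K] Ω := IsSepClosed.lift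
  let _ : Algebra F Ω := φ.toRingHom.toAlgebra
  have : IsScalarTower K F Ω := IsScalarTower.of_algebraMap_eq' φ.comp_algebraMap.symm
  refine ⟨IntermediateField.normalClosure K F Ω, inferInstance, inferInstance, inferInstance, inferInstance,
    ⟨(IsScalarTower.toAlgHom K F (IntermediateField.normalClosure K F Ω)).comp
      ((Pi.evalAlgHom K Ai i).comp (e : B →ₐ[K] (i : I) → Ai i))⟩⟩

/-- The Hopf algebra of a torus `T` and a finite Galois splitting field. -/
theorem exists_data {n : ℕ} (T : Over (Spec (CommRingCat.of K))) [GrpObj T]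
    (hT : ∃ (L : Type u) (_ : Field L) (_ : Algebra K L),
      Red.IsSplitTorusWith (Fin n → ℤ) (Red.bc (Spec.map (CommRingCat.ofHom (algebraMap K L))) T)) :
    ∃ (A : Type u) (_ : CommRing A) (_ : HopfAlgebra K A) (e : T ≅ SpecOver K A) (_ : IsMonHom e.hom)
      (L : Type u) (_ : Field L) (_ : Algebra K L), FiniteDimensional K L ∧ IsGalois K L ∧
        Nonempty (GBasis L (L ⊗[K] A) (Mu.{u} n)) := by
  obtain ⟨L', _, _, hL'⟩ := hT
  have htor := isTorus_of_split T L' hL'
  have haff : IsAffine T.left := by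
    have := TorusAlgClosed.isAffineHom_of_isTorus htor
    exact isAffine_of_isAffineHom T.hom
  obtain ⟨A, _, _, e, he⟩ := exists_hopf K T
  have hspl : Red.IsSplitTorusWith (Fin n → ℤ)
      (Red.bc (Spec.map (CommRingCat.ofHom (algebraMap K L'))) (SpecOver K A)) :=
    TorusBc.isSplitTorusWith_of_iso (BcIso.bcMapIso _ (Grp.mkIso' e)) hL'
  obtain ⟨g⟩ := (isSplit_iff n).mp hspl
  obtain ⟨B, _, _, _, _, _, hB⟩ := MTKey.exists_etale_cover g
  have : Nontrivial B := by
    have h1 := (Module.FaithfullyFlat.iff_flat_and_rTensor_reflects_triviality K B).mp inferInstance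
    by_contra hB
    rw [not_nontrivial_iff_subsingleton] at hB
    have : Subsingleton K := h1.2 K inferInstance
    exact not_subsingleton K this
  obtain ⟨L, _, _, hfin, hgal, ⟨φ⟩⟩ := exists_galois_of_etale (K := K) B
  let _ : Algebra B L := φ.toRingHom.toAlgebra
  have : IsScalarTower K B L := IsScalarTower.of_algebraMap_eq' φ.comp_algebraMap.symm
  exact ⟨A, inferInstance, inferInstance, e, he, L, inferInstance, inferInstance, hfin, hgal, hB L⟩

/-- The points of `T` as points of the Hopf algebra. -/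
noncomputable def ptsHom {T : Over (Spec (CommRingCat.of K))} [GrpObj T] {A : Type u} [CommRing A]
    [HopfAlgebra K A] (e : T ≅ SpecOver K A) [IsMonHom e.hom] :
    (𝟙_ (Over (Spec (CommRingCat.of K))) ⟶ T) →* WithConv (A →ₐ[K] K) where
  toFun x := (RG.BrPts.ptEquiv K A).symm (x ≫ e.hom)
  map_one' := by rw [MonObj.one_comp, map_one]
  map_mul' x y := by rw [MonObj.mul_comp, map_mul]

theorem ptsHom_injective {T : Over (Spec (CommRingCat.of K))} [GrpObj T] {A : Type u} [CommRing A]
    [HopfAlgebra K A] (e : T ≅ SpecOver K A) [IsMonHom e.hom] : Function.Injective (ptsHom e) := by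
  intro x y h
  have h1 := (RG.BrPts.ptEquiv K A).symm.injective h
  exact (cancel_mono e.hom).mp h1

/-- A surjective map `A → K[ℤ]` of bialgebras gives a subgroup `𝔾_m` of `T`. -/
theorem exists_mono_of_surjective {T : Over (Spec (CommRingCat.of K))} [GrpObj T] {A : Type u} [CommRing A]
    [HopfAlgebra K A] (e : T ≅ SpecOver K A) [IsMonHom e.hom]
    (f : A →ₐc[K] MonoidAlgebra K (Multiplicative ℤ)) (hf : Function.Surjective f) :
    ∃ i : Red.Gm (Spec (CommRingCat.of K)) ⟶ T, IsMonHom i ∧ Mono i := by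
  let D := RG.BrDiag.diagIso K ℤ
  let d : Red.Gm (Spec (CommRingCat.of K)) ⟶ SpecOver K (MonoidAlgebra K (Multiplicative ℤ)) := D.inv.hom.hom
  have hd1 : IsMonHom d := D.inv.hom.isMonHom_hom
  have hd2 : IsIso d := by
    have : IsIso ((Grp.forget _).map D.inv) := inferInstance
    exact this
  have hf1 : IsMonHom (specMap K (f : A →ₐ[K] MonoidAlgebra K (Multiplicative ℤ))) := isMonHom_specMap K f
  have hf2 : Mono (specMap K (f : A →ₐ[K] MonoidAlgebra K (Multiplicative ℤ))) := by
    let s := CommRingCat.ofHom (f : A →ₐ[K] MonoidAlgebra K (Multiplicative ℤ)).toRingHom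
    have h1 : IsClosedImmersion (Spec.map s) := IsClosedImmersion.spec_of_surjective s hf
    have h2 : Mono (Spec.map s) := inferInstance
    have : Mono (specMap K (f : A →ₐ[K] MonoidAlgebra K (Multiplicative ℤ))).left := h2
    exact Over.mono_of_mono_left _
  have he : IsMonHom e.inv := inferInstance
  exact ⟨d ≫ specMap K (f : A →ₐ[K] MonoidAlgebra K (Multiplicative ℤ)) ≫ e.inv, inferInstance, inferInstance⟩

/-- **Points of large order give a split subtorus.** -/
theorem exists_mono_Gm
    (n d : ℕ) (hd : 0 < d)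
    (hΥ : ∀ H : Subgroup (Matrix.GeneralLinearGroup (Fin n) ℤ), Finite H → Nat.card H < d)
    (ζ : K) (hζ : IsPrimitiveRoot ζ d)
    (T : Over (Spec (CommRingCat.of K))) [GrpObj T]
    (hT : ∃ (L : Type u) (_ : Field L) (_ : Algebra K L),
      Red.IsSplitTorusWith (Fin n → ℤ) (Red.bc (Spec.map (CommRingCat.ofHom (algebraMap K L))) T))
    (x : 𝟙_ (Over (Spec (CommRingCat.of K))) ⟶ T) (hx : orderOf x = d) :
    ∃ i : Red.Gm (Spec (CommRingCat.of K)) ⟶ T, IsMonHom i ∧ Mono i := by
  obtain ⟨A, _, _, e, he, L, _, _, hfin, hgal, ⟨g⟩⟩ := exists_data T hT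
  let y := ptsHom e x
  have hy : orderOf y = d := by rw [← hx]; exact orderOf_injective (ptsHom e) (ptsHom_injective e) x
  let θ := TorusAlg.theta g y
  let ζL : L := algebraMap K L ζ
  have hζL : IsPrimitiveRoot ζL d := hζ.map_of_injective (algebraMap K L).injective
  have hθd : ∀ m, θ m ^ d = 1 := by
    intro m
    rw [← TorusAlg.theta_pow, ← hy, pow_orderOf_eq_one, TorusAlg.theta_one]
  have : NeZero d := ⟨hd.ne'⟩
  let H : Subgroup (MulAut (Mu.{u} n)) := (TorusAlg.actHom g).range
  have hHfin : Finite H := Finite.of_surjective (TorusAlg.actHom g).rangeRestrict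
    (TorusAlg.actHom g).rangeRestrict_surjective
  have hθH : ∀ h ∈ H, ∀ m, θ (h m) = θ m := by
    rintro _ ⟨σ, rfl⟩ m
    change TorusAlg.theta g y (TorusAlg.actHom g σ m) = TorusAlg.theta g y m
    rw [TorusAlg.theta_act]
    obtain ⟨k, _, hk⟩ := hζL.eq_pow_of_pow_eq_one (hθd m)
    change _ = TorusAlg.theta g y m at hk
    rw [← hk, map_pow]
    change σ (algebraMap K L ζ) ^ k = _
    rw [AlgEquiv.commutes]
  have hcard : Nat.card H < d := by
    have h1 := hΥ (H.map (Lattice.toGL (MulEquiv.ulift : Mu.{u} n ≃* _)))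
      (Finite.of_equiv H (H.equivMapOfInjective _ (Lattice.toGL_injective _)).toEquiv)
    rwa [Subgroup.card_map_of_injective (Lattice.toGL_injective _)] at h1
  have hpos : 0 < Nat.card H := Nat.card_pos
  have hne : ∃ m, θ m ^ (Nat.card H) ≠ 1 := by
    by_contra hcon
    push Not at hcon
    have h1 : y ^ Nat.card H = 1 := by
      apply TorusAlg.theta_injective g
      intro m
      rw [TorusAlg.theta_pow, TorusAlg.theta_one]
      exact hcon m
    have h2 := orderOf_dvd_of_pow_eq_one h1
    rw [hy] at h2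
    exact absurd (Nat.le_of_dvd hpos h2) (not_le.mpr hcard)
  obtain ⟨ψ, hψs, hψ⟩ := Lattice.exists_psi (MulEquiv.ulift : Mu.{u} n ≃* _) d hd ζL hζL θ hθd H hθH hne
  have hψ' : ∀ (σ : L ≃ₐ[K] L) m, ψ (TorusAlg.actHom g σ m) = ψ m := fun σ m => hψ _ ⟨σ, rfl⟩ m
  exact exists_mono_of_surjective e (TorusDesc.fb g ψ hψ') (TorusDesc.fb_surjective g ψ hψ' hψs)

end K843.TorusMain
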