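import Groth.Agent.Ega41.SepExt
import Groth.Agent.Flat2B.SmoothGeom
import Mathlib.LinearAlgebra.Dimension.Free
import Mathlib.RingTheory.Smooth.Flat

/-!
# Separability of fields of invariants: the algebra
-/

set_option autoImplicit false

open TensorProduct Groth.Agent.Ega41.SepExt

namespace K843.SepAlg

/-- `c` is linearly independent over the `p`-th powers. -/
def PIndep (p : ℕ) {F : Type*} [Field F] {n : ℕ} (c : Fin n → F) : Prop :=
  ∀ g : Fin n → F, ∑ i, c i * g i ^ p = 0 → g = 0

theorem pIndep_map_of_inv {k F : Type*} [Field k] [Field F] [Algebra k F] (p : ℕ) (hp : p ≠ 0)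
    (H : ∀ (n : ℕ) (c₀ : k) (c : Fin n → k) (f : Fin n → F),
      PIndep p (fun i => algebraMap k F (c i)) →
      algebraMap k F c₀ + ∑ i, algebraMap k F (c i) * f i ^ p = 0 → ∀ i, ∃ h, algebraMap k F h = f i)
    (n : ℕ) (c : Fin n → k) (hc : PIndep p c) : PIndep p (fun i => algebraMap k F (c i)) := by
  induction n with
  | zero => intro g _; exact Subsingleton.elim _ _
  | succ n ih =>
    have h1 : PIndep p (fun i : Fin n => c i.succ) := by
      intro g hg
      have h2 := hc (Fin.cons 0 g) (by
        rw [Fin.sum_univ_succ]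
        simp only [Fin.cons_zero, Fin.cons_succ, zero_pow hp, mul_zero, zero_add]
        exact hg)
      ext i
      have := congrFun h2 i.succ
      simpa using this
    have h2 := ih _ h1
    intro g hg
    rw [Fin.sum_univ_succ] at hg
    by_cases h0 : g 0 = 0
    · rw [h0, zero_pow hp, mul_zero, zero_add] at hg
      have h3 := h2 (fun i => g i.succ) hg
      ext i
      refine Fin.cases h0 (fun j => ?_) i
      exact congrFun h3 j
    · exfalso
      have h3 : algebraMap k F (c 0) + ∑ i : Fin n, algebraMap k F (c i.succ) * (g i.succ / g 0) ^ p = 0 := by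
        have h4 : g 0 ^ p ≠ 0 := pow_ne_zero _ h0
        apply mul_right_cancel₀ h4
        rw [add_mul, Finset.sum_mul, zero_mul, ← hg]
        congr 1
        apply Finset.sum_congr rfl
        intro i _
        rw [div_pow, mul_assoc, div_mul_cancel₀ _ h4]
      have h4 := H n (c 0) (fun i => c i.succ) (fun i => g i.succ / g 0) h2 h3
      choose h hh using h4
      have h5 : c 0 + ∑ i : Fin n, c i.succ * h i ^ p = 0 := by
        apply (algebraMap k F).injective
        rw [map_add, map_sum, map_zero, ← h3]
        congr 1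
        apply Finset.sum_congr rfl
        intro i _
        rw [map_mul, map_pow, hh]
      have h6 := hc (Fin.cons 1 h) (by
        rw [Fin.sum_univ_succ]
        simp only [Fin.cons_zero, Fin.cons_succ, one_pow, mul_one]
        exact h5)
      have := congrFun h6 0
      simp at this

/-- MacLane's condition from `p`-independence. -/
theorem powLinIndep_of_pIndep {k F : Type*} [Field k] [Field F] [Algebra k F] (p : ℕ) [Fact p.Prime]
    [CharP k p]
    (H : ∀ (n : ℕ) (c : Fin n → k), PIndep p c → PIndep p (fun i => algebraMap k F (c i))) :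
    PowLinIndep p k F := by
  classical
  have : CharP F p := charP_of_injective_algebraMap (algebraMap k F).injective p
  intro n x hx
  rw [Fintype.linearIndependent_iff] at hx ⊢
  intro a ha
  let kp : Subfield k := (frobenius k p).fieldRange
  let S : Submodule kp k := Submodule.span kp (Set.range a)
  have hfin : Module.Finite kp S := Module.Finite.span_of_finite kp (Set.finite_range a)
  let B := Module.finBasis kp S
  let m := Module.finrank kp S
  let c : Fin m → k := fun j => (B j : k)
  have hc : PIndep p c := by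
    intro g hg
    have h1 : ∑ j, (⟨g j ^ p, ⟨g j, rfl⟩⟩ : kp) • B j = 0 := by
      apply Subtype.ext
      rw [AddSubmonoidClass.coe_finsetSum]
      rw [ZeroMemClass.coe_zero, ← hg]
      apply Finset.sum_congr rfl
      intro j _
      change g j ^ p * (B j : k) = _
      rw [mul_comm]
    have h2 := (Fintype.linearIndependent_iff.mp B.linearIndependent) _ h1
    ext j
    have h3 := congrArg Subtype.val (h2 j)
    change g j ^ p = 0 at h3
    exact eq_zero_of_pow_eq_zero h3
  have hcF := H m c hc
  -- coordinates of `a i`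
  have haS : ∀ i, a i ∈ S := fun i => Submodule.subset_span ⟨i, rfl⟩
  have hb : ∀ i j, ∃ b : k, b ^ p = ((B.repr ⟨a i, haS i⟩ j : kp) : k) := by
    intro i j
    obtain ⟨b, hb⟩ := (B.repr ⟨a i, haS i⟩ j).2
    exact ⟨b, hb⟩
  choose b hb using hb
  have hab : ∀ i, a i = ∑ j, c j * b i j ^ p := by
    intro i
    have h1 := congrArg Subtype.val (B.sum_repr ⟨a i, haS i⟩)
    rw [AddSubmonoidClass.coe_finsetSum] at h1
    refine h1.symm.trans ?_
    apply Finset.sum_congr rfl
    intro j _
    rw [hb]
    change ((B.repr ⟨a i, haS i⟩ j : kp) : k) * (B j : k) = _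
    rw [mul_comm]
  have h1 : ∑ j, algebraMap k F (c j) * (∑ i, b i j • x i) ^ p = 0 := by
    rw [← ha]
    have h2 : ∀ j, (∑ i, b i j • x i) ^ p = ∑ i, algebraMap k F (b i j) ^ p * x i ^ p := by
      intro j
      rw [← frobenius_def, map_sum]
      apply Finset.sum_congr rfl
      intro i _
      rw [frobenius_def, Algebra.smul_def, mul_pow]
    simp_rw [h2, Finset.mul_sum]
    rw [Finset.sum_comm]
    apply Finset.sum_congr rfl
    intro i _
    rw [Algebra.smul_def, hab i, map_sum, Finset.sum_mul]
    apply Finset.sum_congr rfl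
    intro j _
    rw [map_mul, map_pow, mul_assoc]
  have h2 := hcF _ h1
  intro i
  rw [hab i]
  apply Finset.sum_eq_zero
  intro j _
  have h3 := congrFun h2 j
  rw [hx (fun i => b i j) h3 i, zero_pow (Fact.out : p.Prime).ne_zero, mul_zero]

theorem isGeometricallyReduced_of_inv {k F : Type*} [Field k] [Field F] [Algebra k F] (p : ℕ) [Fact p.Prime]
    [CharP k p]
    (H : ∀ (n : ℕ) (c₀ : k) (c : Fin n → k) (f : Fin n → F),
      PIndep p (fun i => algebraMap k F (c i)) →
      algebraMap k F c₀ + ∑ i, algebraMap k F (c i) * f i ^ p = 0 → ∀ i, ∃ h, algebraMap k F h = f i) :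
    Algebra.IsGeometricallyReduced k F :=
  isGeometricallyReduced_of_powLinIndep
    (powLinIndep_of_pIndep p (pIndep_map_of_inv p (Fact.out : p.Prime).ne_zero H))

section geomred

universe u

variable {F B E : Type u} [Field F] [CommRing B] [Algebra F B] [Field E] [Algebra F E]

theorem hli_aux (p : ℕ) [Fact p.Prime] [CharP F p] {n : ℕ} (c : Fin n → F) (hc : PIndep p c)
    (e : Fin n → E) (he : ∀ i, e i ^ p = algebraMap F E (c i)) : LinearIndependent F e := by
  have : CharP E p := charP_of_injective_algebraMap (algebraMap F E).injective p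
  rw [Fintype.linearIndependent_iff]
  intro g hg
  have h0 : g = 0 := by
    apply hc
    apply (algebraMap F E).injective
    rw [map_sum, map_zero]
    have h1 := congrArg (frobenius E p) hg
    rw [map_sum, map_zero] at h1
    rw [← h1]
    apply Finset.sum_congr rfl
    intro i _
    rw [frobenius_def, Algebra.smul_def, mul_pow, he, map_mul, map_pow, mul_comm]
  intro i
  rw [h0]; rfl

theorem sum_aux (p : ℕ) [Fact p.Prime] [CharP (B ⊗[F] E) p] {n : ℕ} (c : Fin n → F)
    (e : Fin n → E) (he : ∀ i, e i ^ p = algebraMap F E (c i))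
    (b : Fin n → B) (h : ∑ i, c i • b i ^ p = 0) : (∑ i, b i ⊗ₜ[F] e i) ^ p = 0 := by
    rw [← frobenius_def, map_sum]
    have h3 : ∑ i, frobenius (B ⊗[F] E) p (b i ⊗ₜ[F] e i) = (∑ i, c i • b i ^ p) ⊗ₜ[F] (1 : E) := by
      rw [TensorProduct.sum_tmul]
      apply Finset.sum_congr rfl
      intro i _
      rw [frobenius_def, Algebra.TensorProduct.tmul_pow, he, TensorProduct.smul_tmul,
        Algebra.smul_def, mul_one]
    rw [h3, h, TensorProduct.zero_tmul]

theorem fin_aux {n : ℕ} (e : Fin n → E) (hli : LinearIndependent F e) (b : Fin n → B)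
   (h : ∑ i, b i ⊗ₜ[F] e i = 0) : ∀ i, b i = 0 := by
  have h3 : ∑ i, b i • ((1 : B) ⊗ₜ[F] e i) = 0 := by
    rw [← h]
    apply Finset.sum_congr rfl
    intro i _
    rw [TensorProduct.smul_tmul', smul_eq_mul, mul_one]
  have h4 := Module.Flat.linearIndependent_one_tmul (S := B) hli
  rw [Fintype.linearIndependent_iff] at h4
  exact h4 _ h3

theorem eq_zero_of_sum [IsAlgClosed E] (p : ℕ) [Fact p.Prime] [CharP F p]
    (hred' : IsReduced (B ⊗[F] E)) {n : ℕ} (c : Fin n → F) (hc : PIndep p c)
    (b : Fin n → B) (h : ∑ i, c i • b i ^ p = 0) : ∀ i, b i = 0 := by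
  have : CharP E p := charP_of_injective_algebraMap (algebraMap F E).injective p
  have hE : ∀ i, ∃ e : E, e ^ p = algebraMap F E (c i) := fun i =>
    IsAlgClosed.exists_pow_nat_eq _ (Fact.out : p.Prime).pos
  choose e he using hE
  by_cases hB : Nontrivial B
  swap
  · rw [not_nontrivial_iff_subsingleton] at hB
    intro i
    exact Subsingleton.elim _ _
  have : CharP B p := charP_of_injective_algebraMap (algebraMap F B).injective p
  have : CharP (B ⊗[F] E) p :=
    charP_of_injective_ringHom (f := (Algebra.TensorProduct.includeLeft : B →ₐ[F] B ⊗[F] E).toRingHom)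
      (Algebra.TensorProduct.includeLeft_injective (FaithfulSMul.algebraMap_injective F E)) p
  exact fin_aux e (hli_aux p c hc e he) b (eq_zero_of_pow_eq_zero (sum_aux p c e he b h))

end geomred

section ring

universe u

variable {A B : Type u} [CommRing A] [IsDomain A] [CommRing B] [Algebra A B] [Algebra.Smooth A B]

theorem eq_zero_of_sum_smooth (p : ℕ) [Fact p.Prime] [CharP A p] {n : ℕ} (c : Fin n → A)
    (hc : PIndep p (fun i => algebraMap A (FractionRing A) (c i)))
    (b : Fin n → B) (h : ∑ i, algebraMap A B (c i) * b i ^ p = 0) : ∀ i, b i = 0 := by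
  let F := FractionRing A
  have : CharP F p := charP_of_injective_algebraMap (IsFractionRing.injective A F) p
  have h1 : IsReduced (AlgebraicClosure F ⊗[F] (F ⊗[A] B)) :=
    Groth.Agent.Flat2B.SmoothGeom.isReduced_of_smooth_field (AlgebraicClosure F)
      (AlgebraicClosure F ⊗[F] (F ⊗[A] B))
  have h1' : IsReduced ((F ⊗[A] B) ⊗[F] AlgebraicClosure F) :=
    isReduced_of_injective (Algebra.TensorProduct.comm F (F ⊗[A] B) (AlgebraicClosure F))
      (Algebra.TensorProduct.comm F (F ⊗[A] B) (AlgebraicClosure F)).injective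
  have hinj : Function.Injective (Algebra.TensorProduct.includeRight : B →ₐ[A] F ⊗[A] B) :=
    Algebra.TensorProduct.includeRight_injective (IsFractionRing.injective A F)
  have h2 := eq_zero_of_sum p h1' (fun i => algebraMap A F (c i)) hc
    (fun i => (1 : F) ⊗ₜ[A] b i) (by
      have h3 := congrArg (Algebra.TensorProduct.includeRight : B →ₐ[A] F ⊗[A] B) h
      rw [map_sum, map_zero] at h3
      rw [← h3]
      apply Finset.sum_congr rfl
      intro i _
      rw [map_mul, map_pow, AlgHom.commutes, Algebra.smul_def, IsScalarTower.algebraMap_apply A F (F ⊗[A] B)]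
      rfl)
  intro i
  apply hinj
  rw [map_zero]
  exact h2 i

end ring

end K843.SepAlg
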