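import Groth.Agent.BddFin.K843.InvDesc
import Groth.Agent.BddFin.K843.SepAlg
import Groth.Agent.EqInt.K957.Pts
import Groth.Agent.GIT.K686.Basic
import Mathlib.AlgebraicGeometry.Morphisms.Smooth

/-!
# The groupoid of a group action; invariance of separable relations
-/

set_option autoImplicit false
universe u

open CategoryTheory CategoryTheory.Limits MonoidalCategory CartesianMonoidalCategory MonObj GrpObj AlgebraicGeometry
open Groth.Agent.GrpQ.H766.GeomQuotDef K957.Pts

namespace K843.ActGpd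

section act

variable {S : Scheme.{u}} {G X : Over S} [GrpObj G] (a : AlgGrp.Action G X)

theorem lift_left_act {T : Over S} (g : T ⟶ G) (x : T ⟶ X) : (lift g x).left ≫ a.act.left = (dot a g x).left := rfl

omit [GrpObj G] in
theorem lift_left_snd {T : Over S} (g : T ⟶ G) (x : T ⟶ X) : (lift g x).left ≫ (snd G X).left = x.left := by
  rw [← Over.comp_left, lift_snd]

theorem gpd : InvDesc.Gpd a.act.left (snd G X).left where
  refl := by
    refine ⟨(lift (1 : X ⟶ G) (𝟙 X)).left, ?_, ?_⟩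
    · rw [lift_left_act, one_dot]; rfl
    · rw [lift_left_snd]; rfl
  symm := by
    refine ⟨(lift (fst G X)⁻¹ a.act).left, ?_, ?_⟩
    · rw [lift_left_act]
      have h1 : a.act = dot a (fst G X) (snd G X) := by
        rw [dot, lift_fst_snd, Category.id_comp]
      conv_lhs => rw [h1]
      rw [inv_dot_dot]
    · rw [lift_left_snd]
  trans := by
    intro W r₁ r₂ h
    let T : Over S := Over.mk (r₁ ≫ (G ⊗ X).hom)
    let R₁ : T ⟶ G ⊗ X := Over.homMk r₁ rfl
    let R₂ : T ⟶ G ⊗ X := Over.homMk r₂ (by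
      change r₂ ≫ (G ⊗ X).hom = r₁ ≫ (G ⊗ X).hom
      rw [← Over.w a.act, ← Category.assoc, ← h, Category.assoc, Over.w, Over.w])
    have hR : R₁ ≫ snd G X = R₂ ≫ a.act := Over.OverMorphism.ext h
    refine ⟨(lift ((R₁ ≫ fst G X) * (R₂ ≫ fst G X)) (R₂ ≫ snd G X)).left, ?_, ?_⟩
    · rw [lift_left_act, mul_dot]
      have h1 : ∀ R' : T ⟶ G ⊗ X, R' ≫ a.act = dot a (R' ≫ fst G X) (R' ≫ snd G X) := by
        intro R'
        rw [dot, ← comp_lift, lift_fst_snd, Category.comp_id]
      rw [← h1 R₂, ← hR, ← h1 R₁]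
      rfl
    · rw [lift_left_snd]; rfl

omit [GrpObj G] in
theorem smooth_snd [Smooth G.hom] : Smooth (snd G X).left :=
  MorphismProperty.of_isPullback (P := @Smooth) (IsPullback.of_hasPullback G.hom X.hom) inferInstance

theorem exists_iso_act : ∃ i : (G ⊗ X).left ⟶ (G ⊗ X).left, IsIso i ∧ i ≫ (snd G X).left = a.act.left := by
  let j : G ⊗ X ⟶ G ⊗ X := lift (fst G X) a.act
  let j' : G ⊗ X ⟶ G ⊗ X := lift (fst G X) (lift (fst G X)⁻¹ (snd G X) ≫ a.act)
  have h0 : a.act = dot a (fst G X) (snd G X) := by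
    rw [dot, lift_fst_snd, Category.id_comp]
  have h1 : j ≫ j' = 𝟙 _ := by
    apply CartesianMonoidalCategory.hom_ext
    · rw [Category.assoc, lift_fst, lift_fst, Category.id_comp]
    · rw [Category.assoc, lift_snd, Category.id_comp]
      change j ≫ dot a (fst G X)⁻¹ (snd G X) = _
      rw [comp_dot, lift_snd, GrpObj.comp_inv, lift_fst]
      conv_lhs => rw [h0]
      rw [inv_dot_dot]
  have h2 : j' ≫ j = 𝟙 _ := by
    apply CartesianMonoidalCategory.hom_ext
    · rw [Category.assoc, lift_fst, lift_fst, Category.id_comp]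
    · rw [Category.assoc, lift_snd, Category.id_comp]
      conv_lhs => rw [h0]
      rw [comp_dot, lift_fst, lift_snd]
      exact dot_inv_dot a _ _
  have hj : IsIso j := ⟨j', h1, h2⟩
  refine ⟨j.left, ?_, ?_⟩
  · have : IsIso ((Over.forget S).map j) := inferInstance
    exact this
  · rw [← Over.comp_left, lift_snd]

theorem smooth_act [Smooth G.hom] : Smooth a.act.left := by
  obtain ⟨i, _, hi⟩ := exists_iso_act a
  have := smooth_snd (G := G) (X := X)
  rw [← hi]
  infer_instance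

end act

section relation

variable {R X : Scheme.{u}} {σ τ : R ⟶ X}

open SepAlg

/-- If `∑ cᵢ fᵢ ^ p = - c₀` with invariant `cᵢ` which are independent over `p`-th powers, the `fᵢ`
are invariant. -/
theorem invSec_of_relation [Smooth τ] [IsIntegral X] (p : ℕ) [Fact p.Prime] {V : X.Opens} (hV : IsAffineOpen V)
    [Nonempty V] [CharP Γ(X, V) p] {n : ℕ} (c₀ : Γ(X, V)) (c f : Fin n → Γ(X, V))
    (hc : PIndep p (fun i => algebraMap Γ(X, V) (FractionRing Γ(X, V)) (c i)))
    (hrel : c₀ + ∑ i, c i * f i ^ p = 0) (h₀ : InvSec σ τ V c₀) (hinv : ∀ i, InvSec σ τ V (c i)) (i : Fin n) :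
    InvSec σ τ V (f i) := by
  have hdom : IsDomain Γ(X, V) := inferInstance
  let W : R.Opens := σ ⁻¹ᵁ V ⊓ τ ⁻¹ᵁ V
  unfold InvSec
  refine TopCat.Presheaf.section_ext R.sheaf W _ _ fun z hz => ?_
  obtain ⟨W', hW', hzW', hle⟩ := exists_isAffineOpen_mem_and_subset (X := R) (x := z) (U := W) hz
  have hle' : W' ≤ W := hle
  have hWσ : W' ≤ σ ⁻¹ᵁ V := hle'.trans inf_le_left
  have hWτ : W' ≤ τ ⁻¹ᵁ V := hle'.trans inf_le_right
  have hne : Nonempty W' := ⟨⟨z, hzW'⟩⟩
  let φ : Γ(X, V) →+* Γ(R, W') := (σ.appLE V W' hWσ).hom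
  let ψ : Γ(X, V) →+* Γ(R, W') := (τ.appLE V W' hWτ).hom
  have hres : ∀ (t : Γ(X, V)), InvSec σ τ V t → φ t = ψ t := by
    intro t ht
    have a1 := Scheme.Hom.appLE_map σ (inf_le_left : W ≤ σ ⁻¹ᵁ V) (homOfLE hle').op
    have a2 := Scheme.Hom.appLE_map τ (inf_le_right : W ≤ τ ⁻¹ᵁ V) (homOfLE hle').op
    change (σ.appLE V W' hWσ).hom t = (τ.appLE V W' hWτ).hom t
    rw [← a1, ← a2]
    exact congr((R.presheaf.map (homOfLE hle').op).hom $ht)
  have hψs : ψ.Smooth := HasRingHomProperty.appLE (P := @Smooth) τ inferInstance ⟨V, hV⟩ ⟨W', hW'⟩ hWτ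
  have hnt : Nontrivial Γ(R, W') := inferInstance
  have hchar : CharP Γ(R, W') p := by
    rw [CharP.charP_iff_prime_eq_zero (Fact.out : p.Prime), ← map_natCast ψ, CharP.cast_eq_zero, map_zero]
  have key : φ (f i) = ψ (f i) := by
    algebraize [ψ]
    have h1 : ∑ i, algebraMap Γ(X, V) Γ(R, W') (c i) * (φ (f i) - ψ (f i)) ^ p = 0 := by
      have e1 := congrArg φ hrel
      have e2 := congrArg ψ hrel
      rw [map_add, map_sum, map_zero] at e1 e2
      have e3 : ∑ i, ψ (c i) * φ (f i) ^ p = ∑ i, ψ (c i) * ψ (f i) ^ p := by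
        have e4 : φ c₀ + ∑ i, ψ (c i) * φ (f i) ^ p = 0 := by
          rw [← e1]
          congr 1
          apply Finset.sum_congr rfl
          intro i _
          rw [map_mul, map_pow, hres _ (hinv i)]
        have e5 : φ c₀ + ∑ i, ψ (c i) * ψ (f i) ^ p = 0 := by
          rw [← e2, hres _ h₀]
          congr 1
          apply Finset.sum_congr rfl
          intro i _
          rw [map_mul, map_pow]
        exact add_left_cancel (e4.trans e5.symm)
      have e6 : ∀ i, algebraMap Γ(X, V) Γ(R, W') (c i) * (φ (f i) - ψ (f i)) ^ p =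
          ψ (c i) * φ (f i) ^ p - ψ (c i) * ψ (f i) ^ p := by
        intro i
        rw [sub_pow_char, mul_sub]
        rfl
      rw [Finset.sum_congr rfl (fun i _ => e6 i), Finset.sum_sub_distrib, e3, sub_self]
    exact sub_eq_zero.mp (eq_zero_of_sum_smooth p c hc _ h1 i)
  have a1 := Scheme.Hom.appLE_map σ (inf_le_left : W ≤ σ ⁻¹ᵁ V) (homOfLE hle').op
  have a2 := Scheme.Hom.appLE_map τ (inf_le_right : W ≤ τ ⁻¹ᵁ V) (homOfLE hle').op
  have g := R.presheaf.germ_res (homOfLE hle') z hzW'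
  have key' := congrArg (R.presheaf.germ W' z hzW').hom key
  change (R.presheaf.germ W' z hzW').hom ((σ.appLE V W' hWσ).hom (f i)) =
    (R.presheaf.germ W' z hzW').hom ((τ.appLE V W' hWτ).hom (f i)) at key'
  rw [← a1, ← a2] at key'
  change (R.presheaf.germ W z hz).hom _ = (R.presheaf.germ W z hz).hom _
  rw [← g]
  exact key'

end relation

end K843.ActGpd
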