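import Mathlib.Algebra.Polynomial.AlgebraMap
import Mathlib.LinearAlgebra.Lagrange
import Mathlib.Algebra.Polynomial.Bivariate
import Mathlib.Tactic.LinearCombination

/-!
# The additive polynomial attached to a finite additive subgroup
-/

set_option autoImplicit false
open Polynomial

namespace K843.Additive

universe u v

theorem prod_shift {L : Type u} [Field L] (s : Finset L)
    (hadd : ∀ a ∈ s, ∀ b ∈ s, a + b ∈ s) {R : Type v} [CommRing R] [Algebra L R] (y : R) (a : L)
    (ha : a ∈ s) :
    ∏ b ∈ s, (algebraMap L R a + y - algebraMap L R b) = ∏ b ∈ s, (y - algebraMap L R b) := by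
  classical
  have himg : s.image (fun b => a + b) = s := by
    apply Finset.eq_of_subset_of_card_le
    · intro c hc
      obtain ⟨b, hb, rfl⟩ := Finset.mem_image.mp hc
      exact hadd a ha b hb
    · rw [Finset.card_image_of_injective _ (add_right_injective a)]
  conv_lhs => rw [← himg]
  rw [Finset.prod_image (fun x _ y _ h => add_right_injective a h)]
  apply Finset.prod_congr rfl
  intro b _
  rw [map_add]; ring

theorem eval_prod {L : Type u} [Field L] (s : Finset L) {R : Type v} [CommRing R] [Algebra L R] (y : R) :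
    aeval y (∏ a ∈ s, (X - C a)) = ∏ a ∈ s, (y - algebraMap L R a) := by
  simp [map_prod]

theorem main {L : Type u} [Field L] (s : Finset L) (h0 : (0 : L) ∈ s)
    (hadd : ∀ a ∈ s, ∀ b ∈ s, a + b ∈ s) (R : Type v) [CommRing R] [Algebra L R] (x y : R) :
    aeval (x + y) (∏ a ∈ s, (X - C a)) = aeval x (∏ a ∈ s, (X - C a)) + aeval y (∏ a ∈ s, (X - C a)) := by
  classical
  set f : L[X] := ∏ a ∈ s, (X - C a) with hf
  have hfm : f.Monic := monic_prod_of_monic _ _ fun a _ => monic_X_sub_C a
  have hfd : f.natDegree = s.card := by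
    rw [hf, natDegree_finsetProd_X_sub_C_eq_card]
  let g : L[X][X] := f.map (algebraMap L L[X])
  have hgm : g.Monic := hfm.map _
  have hgd : g.natDegree = s.card := by rw [hfm.natDegree_map, hfd]
  let g' : L[X][X] := g.comp (X + C X)
  have hg'm : g'.Monic := hgm.comp_X_add_C _
  have hg'd : g'.natDegree = s.card := by
    rw [natDegree_comp, natDegree_X_add_C, mul_one, hgd]
  have hpos : 0 < s.card := Finset.card_pos.mpr ⟨0, h0⟩
  have hlt : (g' - g - C f).degree < s.card := by
    refine lt_of_le_of_lt (degree_sub_le _ _) (max_lt ?_ ?_)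
    · have h1 : g'.degree = s.card := by rw [degree_eq_natDegree hg'm.ne_zero, hg'd]
      have h2 : g.degree = s.card := by rw [degree_eq_natDegree hgm.ne_zero, hgd]
      have := degree_sub_lt_left (h1.trans h2.symm) hg'm.ne_zero (by rw [hg'm.leadingCoeff, hgm.leadingCoeff])
      rwa [h1] at this
    · exact lt_of_le_of_lt degree_C_le (by exact_mod_cast hpos)
  let S : Finset L[X] := s.image C
  have hS : S.card = s.card := Finset.card_image_of_injective _ C_injective
  have hzero : g' - g - C f = 0 := by
    apply eq_zero_of_degree_lt_of_eval_finset_eq_zero S (by rwa [hS])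
    intro z hz
    obtain ⟨a, ha, rfl⟩ := Finset.mem_image.mp hz
    have h1 : eval (C a) g = 0 := by
      rw [eval_map_algebraMap, hf, eval_prod]
      exact Finset.prod_eq_zero ha (by rw [algebraMap_eq, sub_self])
    have h2 : eval (C a) g' = f := by
      rw [eval_comp, eval_map_algebraMap, hf, eval_prod, eval_add, eval_X, eval_C]
      have := prod_shift s hadd (R := L[X]) X a ha
      rw [algebraMap_eq] at this ⊢
      exact this
    rw [eval_sub, eval_sub, h1, h2, eval_C, sub_zero, sub_self]
  have hev := congrArg (eval₂ (aeval y : L[X] →ₐ[L] R).toRingHom x) hzero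
  have hg : eval₂ (aeval y : L[X] →ₐ[L] R).toRingHom x g = aeval x f := by
    rw [eval₂_map, aeval_def]
    congr 1
    ext r
    simp
  have hg' : eval₂ (aeval y : L[X] →ₐ[L] R).toRingHom x g' = aeval (x + y) f := by
    rw [eval₂_comp, eval₂_add, eval₂_X, eval₂_C]
    have : (aeval y : L[X] →ₐ[L] R).toRingHom X = y := by simp
    rw [this, eval₂_map, aeval_def]
    congr 1
    ext r
    simp
  rw [eval₂_sub, eval₂_sub, hg, hg', eval₂_C, eval₂_zero] at hev
  have hy : (aeval y : L[X] →ₐ[L] R).toRingHom f = aeval y f := rfl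
  rw [hy] at hev
  linear_combination hev

end K843.Additive
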