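import Groth.Agent.CurvesA.SkolemNoether
import Mathlib.RingTheory.AdjoinRoot
import Mathlib.RingTheory.TensorProduct.Basic
import Mathlib.LinearAlgebra.Dimension.Free
import Mathlib.LinearAlgebra.Dimension.Constructions
import Mathlib.LinearAlgebra.FiniteDimensional.Basic

/-!
# Dimensions of modules over central simple algebras
-/

set_option autoImplicit false
open Polynomial Module TensorProduct

namespace K843.CSAModule

universe u v w

/-- A finite-dimensional module over a simple `F`-algebra of dimension `n ^ 2` has dimension divisible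
by `n`. -/
theorem dvd_finrank (F : Type u) [Field F] (C : Type v) [Ring C] [Algebra F C] [IsSimpleRing C]
    [FiniteDimensional F C] (n : ℕ) (hn : finrank F C = n ^ 2) (N : Type w) [AddCommGroup N]
    [Module F N] [Module C N] [IsScalarTower F C N] [FiniteDimensional F N] : n ∣ finrank F N := by
  rcases subsingleton_or_nontrivial N with hN | hN
  · rw [Module.finrank_zero_of_subsingleton]; exact dvd_zero n
  have : IsArtinianRing C := IsArtinianRing.of_finite F C
  have hfN : Module.Finite C N := Module.Finite.of_restrictScalars_finite F C N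
  obtain ⟨b, hb, S, hS, ⟨e⟩⟩ := (IsSimpleRing.isIsotypic C C).linearEquiv_fun
  -- `N` is isotypic of type `S`
  let i₁ : C →ₗ[C] C × N := LinearMap.inl C C N
  let i₂ : N →ₗ[C] C × N := LinearMap.inr C C N
  have hi₁ : Function.Injective i₁ := LinearMap.inl_injective
  have hi₂ : Function.Injective i₂ := LinearMap.inr_injective
  let S' : Submodule C (C × N) := S.map i₁
  have e0 : S ≃ₗ[C] S' := S.equivMapOfInjective i₁ hi₁
  have hS'' : IsSimpleModule C S' := IsSimpleModule.congr e0.symm
  have hiso := IsSimpleRing.isIsotypic C (C × N) S'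
  have hisoN : IsIsotypicOfType C N S' := hiso.of_injective i₂ hi₂
  obtain ⟨a, ⟨ea⟩⟩ := hisoN.linearEquiv_fun
  have hfS : FiniteDimensional F S := inferInstanceAs (FiniteDimensional F (S.restrictScalars F))
  have hfS' : FiniteDimensional F S' := Module.Finite.equiv (e0.restrictScalars F)
  have hSS' : finrank F S = finrank F S' := LinearEquiv.finrank_eq (e0.restrictScalars F)
  have ha : finrank F N = a * finrank F S := by
    rw [LinearEquiv.finrank_eq (ea.restrictScalars F), Module.finrank_pi_fintype, hSS']
    simp
  have hb' : finrank F C = b * finrank F S := by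
    rw [LinearEquiv.finrank_eq (e.restrictScalars F), Module.finrank_pi_fintype]
    simp
  -- `C ≅ M_b(End S)ᵒᵖ`
  let e1 : Module.End C C ≃ₐ[F] Matrix (Fin b) (Fin b) (Module.End C S) :=
    (e.conjAlgEquiv F).trans (endVecAlgEquivMatrixEnd ..)
  let e2 : Cᵐᵒᵖ ≃ₐ[F] Module.End C C := .moduleEndSelf F
  have hcard : finrank F C = b * b * finrank F (Module.End C S) := by
    rw [LinearEquiv.finrank_eq (MulOpposite.opLinearEquiv F : C ≃ₗ[F] Cᵐᵒᵖ),
      LinearEquiv.finrank_eq (e2.trans e1).toLinearEquiv, Module.finrank_matrix]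
    simp
  have hbn : b ∣ n := by
    have : b ^ 2 ∣ n ^ 2 := by
      rw [← hn, hcard, pow_two]
      exact Dvd.intro _ rfl
    exact (Nat.pow_dvd_pow_iff (by norm_num)).mp this
  obtain ⟨t, rfl⟩ := hbn
  have hbpos : 0 < b := Nat.pos_of_ne_zero hb.out
  have hdim : finrank F S = b * t * t := by
    rw [hn] at hb'
    have : b * (b * t * t) = b * finrank F S := by rw [← hb']; ring
    exact (Nat.eq_of_mul_eq_mul_left hbpos this).symm
  rw [ha, hdim]
  exact ⟨a * t, by ring⟩

/-- A finite-dimensional vector space with commuting actions of a field extension `F` of degree `r`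
and of a central simple algebra of dimension `n ^ 2` has dimension divisible by `n * r`. -/
theorem dvd_finrank_of_commuting (K : Type u) [Field K] (B : Type v) [Ring B] [Algebra K B]
    [Algebra.IsCentral K B] [IsSimpleRing B] [FiniteDimensional K B] (n : ℕ)
    (hn : finrank K B = n ^ 2) (F : Type u) [Field F] [Algebra K F] [FiniteDimensional K F]
    (N : Type w) [AddCommGroup N] [Module K N] [FiniteDimensional K N]
    (α : F →ₐ[K] Module.End K N) (β : B →ₐ[K] Module.End K N)
    (hcomm : ∀ f b, Commute (α f) (β b)) : n * finrank K F ∣ finrank K N := by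
  let γ : F ⊗[K] B →ₐ[K] Module.End K N := Algebra.TensorProduct.lift α β hcomm
  have hsimple : IsSimpleRing (F ⊗[K] B) :=
    Groth.Agent.CurvesA.CSABasic.isSimpleRing_tensorProduct K F B
  let _ : Module (F ⊗[K] B) N := Module.compHom N (γ : F ⊗[K] B →+* Module.End K N)
  let _ : Module F N := Module.compHom N (α : F →+* Module.End K N)
  have hsC : ∀ (c : F ⊗[K] B) (x : N), c • x = γ c x := fun _ _ => rfl
  have hsF : ∀ (c : F) (x : N), c • x = α c x := fun _ _ => rfl
  have h1 : IsScalarTower F (F ⊗[K] B) N := by
    refine ⟨fun f c x => ?_⟩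
    rw [hsC, hsC, hsF, Algebra.smul_def, map_mul, Module.End.mul_apply]
    have : γ (algebraMap F (F ⊗[K] B) f) = α f := by
      rw [Algebra.TensorProduct.algebraMap_apply]
      simp [γ]
    rw [this]
  have h2 : IsScalarTower K F N := by
    refine ⟨fun k f x => ?_⟩
    rw [hsF, hsF, map_smul]; rfl
  have h3 : FiniteDimensional F N := Module.Finite.of_restrictScalars_finite K F N
  have h4 : finrank F (F ⊗[K] B) = n ^ 2 := by rw [Module.finrank_baseChange, hn]
  have h5 := dvd_finrank F (F ⊗[K] B) n h4 N
  rw [← Module.finrank_mul_finrank K F N, mul_comm]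
  exact mul_dvd_mul_left _ h5

end K843.CSAModule
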