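import Mathlib.FieldTheory.Minpoly.Basic
import Mathlib.FieldTheory.IsAlgClosed.AlgebraicClosure
import Mathlib.RingTheory.UniqueFactorizationDomain.NormalizedFactors
import Mathlib.Algebra.Polynomial.FieldDivision
import Mathlib.FieldTheory.Separable
import Mathlib.RingTheory.Polynomial.UniqueFactorization

/-!
# Factors of `X ^ m - a` over a field containing all roots of unity
-/

set_option autoImplicit false
open Polynomial

namespace K843.RootFactors

universe u v

variable {K : Type u} [Field K]

/-- An `m`-th root of unity of an extension field is in `K`. -/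
theorem mem_range_of_pow_eq_one (hK : ∀ n : ℕ, 0 < n → (X ^ n - 1 : K[X]).Splits)
    {E : Type v} [Field E] [Algebra K E] (m : ℕ) (hm : 0 < m) (ζ : E) (hζ : ζ ^ m = 1) :
    ∃ c : K, algebraMap K E c = ζ := by
  have hne : (X ^ m - 1 : E[X]) ≠ 0 := by
    rw [← C_1]; exact X_pow_sub_C_ne_zero hm 1
  have hs := hK m hm
  have hmap : (X ^ m - 1 : K[X]).map (algebraMap K E) = X ^ m - 1 := by simp
  have h1 : ζ ∈ (X ^ m - 1 : E[X]).roots := by
    rw [mem_roots hne]; simp [hζ]
  rw [← hmap, hs.roots_map] at h1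
  obtain ⟨c, _, hc⟩ := Multiset.mem_map.mp h1
  exact ⟨c, hc⟩

theorem prod_mem {E : Type v} [Field E] [Algebra K E] (y : E) (t : Multiset E)
    (ht : ∀ w ∈ t, ∃ c : K, w = algebraMap K E c * y) :
    ∃ c : K, t.prod = algebraMap K E c * y ^ t.card := by
  induction t using Multiset.induction_on with
  | empty => exact ⟨1, by simp⟩
  | cons w t ih =>
    obtain ⟨c, hc⟩ := ih fun w hw => ht w (Multiset.mem_cons_of_mem hw)
    obtain ⟨d, hd⟩ := ht w (Multiset.mem_cons_self w t)
    refine ⟨d * c, ?_⟩
    rw [Multiset.prod_cons, hc, hd, Multiset.card_cons, map_mul, pow_succ]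
    ring

/-- All monic irreducible factors of `X ^ m - a` are of the form `X ^ r - b` with the same `r`. -/
theorem exists_factor_form (hK : ∀ n : ℕ, 0 < n → (X ^ n - 1 : K[X]).Splits) (m : ℕ) (hm : 0 < m)
    (a : K) (ha : a ≠ 0) :
    ∃ r : ℕ, 0 < r ∧ ∀ f : K[X], f.Monic → Irreducible f → f ∣ X ^ m - C a → ∃ b : K, f = X ^ r - C b := by
  classical
  let E := AlgebraicClosure K
  obtain ⟨y, hy⟩ := IsAlgClosed.exists_pow_nat_eq (algebraMap K E a) hm
  have hy0 : y ≠ 0 := by
    rintro rfl
    rw [zero_pow hm.ne'] at hy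
    exact ha ((algebraMap K E).injective (by rw [← hy, map_zero]))
  have hex : ∃ r : ℕ, 0 < r ∧ ∃ b : K, algebraMap K E b = y ^ r := ⟨m, hm, a, hy.symm⟩
  let r := Nat.find hex
  have hr : 0 < r := (Nat.find_spec hex).1
  obtain ⟨b, hb⟩ := (Nat.find_spec hex).2
  have hb' : algebraMap K E b = y ^ r := hb
  refine ⟨r, hr, fun f hfm hf hfd => ?_⟩
  have hfsplit : (f.map (algebraMap K E)).Splits := IsAlgClosed.splits _
  have hroot : ∀ z ∈ (f.map (algebraMap K E)).roots, ∃ c : K, z = algebraMap K E c * y := by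
    intro z hz
    have hz1 : aeval z f = 0 := by
      have := (mem_roots'.mp hz).2
      rw [IsRoot, eval_map_algebraMap] at this
      exact this
    have hz2 : aeval z (X ^ m - C a : K[X]) = 0 := by
      obtain ⟨g, hg⟩ := hfd
      rw [hg, map_mul, hz1, zero_mul]
    have hz3 : z ^ m = algebraMap K E a := by
      simpa [sub_eq_zero] using hz2
    obtain ⟨c, hc⟩ := mem_range_of_pow_eq_one hK (E := E) m hm (z / y) (by
      rw [div_pow, hz3, hy, div_self]
      rw [← hy]; exact pow_ne_zero _ hy0)
    exact ⟨c, by rw [hc, div_mul_cancel₀ _ hy0]⟩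
  -- the degree of `f` is at least `r`
  have hdegpos : 0 < f.natDegree := hf.natDegree_pos
  have hcardr : (f.map (algebraMap K E)).roots.card = f.natDegree := by
    rw [← hfsplit.natDegree_eq_card_roots, hfm.natDegree_map]
  have hge : r ≤ f.natDegree := by
    apply Nat.find_min' hex
    refine ⟨hdegpos, ?_⟩
    obtain ⟨c, hc⟩ := prod_mem y _ hroot
    have h0 := hfsplit.coeff_zero_eq_prod_roots_of_monic (hfm.map _)
    rw [hc, coeff_map, hcardr, hfm.natDegree_map] at h0
    have hc0 : c ≠ 0 := by
      rintro rfl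
      rw [map_zero, zero_mul] at hc
      rw [Multiset.prod_eq_zero_iff] at hc
      have h1 := (mem_roots'.mp hc).2
      rw [IsRoot, eval_map_algebraMap] at h1
      have hz2 : aeval (0 : E) (X ^ m - C a : K[X]) = 0 := by
        obtain ⟨g, hg⟩ := hfd
        rw [hg, map_mul, h1, zero_mul]
      have hz3 : (0 : E) ^ m = algebraMap K E a := by
        simpa [sub_eq_zero] using hz2
      rw [zero_pow hm.ne'] at hz3
      exact ha ((algebraMap K E).injective (by rw [← hz3, map_zero]))
    refine ⟨c⁻¹ * ((-1) ^ f.natDegree * f.coeff 0), ?_⟩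
    rw [map_mul, map_mul, h0, map_pow, map_neg, map_one, ← mul_assoc, ← mul_assoc]
    have h2 : ((-1 : E) ^ f.natDegree) * (-1) ^ f.natDegree = 1 := by
      rw [← mul_pow, neg_one_mul, neg_neg, one_pow]
    have h3 : algebraMap K E c⁻¹ * algebraMap K E c = 1 := by
      rw [← map_mul, inv_mul_cancel₀ hc0, map_one]
    calc algebraMap K E c⁻¹ * (-1) ^ f.natDegree * (-1) ^ f.natDegree * (algebraMap K E c * y ^ f.natDegree)
        = (algebraMap K E c⁻¹ * algebraMap K E c) * ((-1 : E) ^ f.natDegree * (-1) ^ f.natDegree) * y ^ f.natDegree := by ring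
      _ = y ^ f.natDegree := by rw [h2, h3, one_mul, one_mul]
  -- a root
  obtain ⟨z, hz⟩ : ∃ z, z ∈ (f.map (algebraMap K E)).roots := by
    apply Multiset.card_pos_iff_exists_mem.mp
    rw [hcardr]; exact hdegpos
  obtain ⟨c, hc⟩ := hroot z hz
  have hz1 : aeval z f = 0 := by
    have := (mem_roots'.mp hz).2
    rw [IsRoot, eval_map_algebraMap] at this
    exact this
  refine ⟨c ^ r * b, ?_⟩
  have hmin : f = minpoly K z := minpoly.eq_of_irreducible_of_monic hf hz1 hfm
  have hdvd : f ∣ X ^ r - C (c ^ r * b) := by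
    rw [hmin]
    apply minpoly.dvd
    rw [map_sub, aeval_X_pow, aeval_C, map_mul, map_pow, hb', hc, mul_pow, sub_self]
  have hmon : (X ^ r - C (c ^ r * b) : K[X]).Monic := monic_X_pow_sub_C _ hr.ne'
  exact (eq_of_monic_of_dvd_of_natDegree_le hfm hmon hdvd (by rwa [natDegree_X_pow_sub_C])).symm

/-- A monic divisor of `X ^ m - a` is a product of polynomials `X ^ r - b`. -/
theorem exists_prod_form (m : ℕ) (a : K) (g : K[X]) (hg : g.Monic) (hgd : g ∣ X ^ m - C a) (r : ℕ)
    (hr : ∀ f : K[X], f.Monic → Irreducible f → f ∣ X ^ m - C a → ∃ b : K, f = X ^ r - C b) :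
    ∃ s : Multiset K, g = (s.map fun a : K => X ^ r - C a).prod := by
  classical
  have h1 : ∀ f ∈ UniqueFactorizationMonoid.normalizedFactors g, ∃ b : K, f = X ^ r - C b := by
    intro f hf
    have hirr := UniqueFactorizationMonoid.irreducible_of_normalized_factor f hf
    have hmon : f.Monic := by
      rw [← normalize_eq_self_iff_monic hirr.ne_zero]
      exact UniqueFactorizationMonoid.normalize_normalized_factor f hf
    exact hr f hmon hirr ((UniqueFactorizationMonoid.dvd_of_mem_normalizedFactors hf).trans hgd)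
  have h2 : (UniqueFactorizationMonoid.normalizedFactors g).prod = g := by
    rw [UniqueFactorizationMonoid.prod_normalizedFactors_eq hg.ne_zero, hg.normalize_eq_self]
  choose! B hB using h1
  refine ⟨(UniqueFactorizationMonoid.normalizedFactors g).map B, ?_⟩
  rw [Multiset.map_map]
  conv_lhs => rw [← h2]
  congr 1
  conv_lhs => rw [← Multiset.map_id (UniqueFactorizationMonoid.normalizedFactors g)]
  apply Multiset.map_congr rfl
  intro f hf
  exact hB f hf

end K843.RootFactors
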