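import Groth.Agent.BddFin.K843.CSAModule
import Groth.Agent.BddFin.K843.RootFactors
import Mathlib.Algebra.Polynomial.Degree.Lemmas

/-!
# If all irreducible factors of a polynomial killing `x` have degree `r` then `r` divides the degree
of the central simple algebra
-/

set_option autoImplicit false
open Polynomial Module TensorProduct MulOpposite

namespace K843.DegDvd

universe u v w

variable {K : Type u} [Field K] {A : Type v} [Ring A] [Algebra K A]

/-- Left multiplication as a map of right modules. -/
def lm (T : A) : A →ₗ[Aᵐᵒᵖ] A where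
  toFun a := T * a
  map_add' a b := mul_add T a b
  map_smul' b a := by simp [mul_assoc]

theorem lm_apply (T a : A) : lm T a = T * a := rfl

theorem aeval_mul_mem (x : A) (I : Submodule Aᵐᵒᵖ A) (hI : ∀ a ∈ I, x * a ∈ I) (g : K[X]) :
    ∀ a ∈ I, aeval x g * a ∈ I := by
  induction g using Polynomial.induction_on' with
  | add p q hp hq => intro a ha; rw [map_add, add_mul]; exact I.add_mem (hp a ha) (hq a ha)
  | monomial n c =>
    intro a ha
    rw [aeval_monomial, mul_assoc]
    have h1 : ∀ n : ℕ, x ^ n * a ∈ I := by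
      intro n
      induction n with
      | zero => simpa using ha
      | succ n ih => rw [pow_succ', mul_assoc]; exact hI _ ih
    have h2 : algebraMap K A c * (x ^ n * a) = op (algebraMap K A c) • (x ^ n * a) := by
      rw [op_smul_eq_mul, Algebra.commutes]
    rw [h2]
    exact I.smul_mem _ (h1 n)

theorem exists_irreducible_factor (x : A) (I : Submodule Aᵐᵒᵖ A) (hI : ∀ a ∈ I, x * a ∈ I) (P : K[X]) :
    P ≠ 0 → ∀ a ∈ I, a ≠ 0 → aeval x P * a = 0 →
    ∃ f : K[X], Irreducible f ∧ f ∣ P ∧ ∃ b ∈ I, b ≠ 0 ∧ aeval x f * b = 0 := by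
  induction P using WfDvdMonoid.induction_on_irreducible with
  | zero => intro h; exact absurd rfl h
  | unit P hP =>
    intro _ a ha ha0 h
    exfalso
    apply ha0
    have h1 : IsUnit (aeval x P) := hP.map (aeval x)
    exact (h1.mul_right_eq_zero).mp h
  | mul Q i hQ hi ih =>
    intro hne a ha ha0 h
    by_cases hQa : aeval x Q * a = 0
    · obtain ⟨f, hf, hfd, b, hb, hb0, hfb⟩ := ih hQ a ha ha0 hQa
      exact ⟨f, hf, hfd.mul_left i, b, hb, hb0, hfb⟩
    · refine ⟨i, hi, dvd_mul_right i Q, aeval x Q * a, aeval_mul_mem x I hI Q a ha, hQa, ?_⟩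
      rw [← mul_assoc, ← map_mul]; exact h

/-- Base case: a right ideal stable under `x` and killed by `f(x)`, `f` irreducible. -/
theorem dvd_finrank_killed [Algebra.IsCentral K A] [IsSimpleRing A] [FiniteDimensional K A] (n : ℕ)
    (hn : finrank K A = n ^ 2) (x : A) (f : K[X]) (hf : Irreducible f)
    (I : Submodule Aᵐᵒᵖ A) (hI : ∀ a ∈ I, x * a ∈ I) (hfI : ∀ a ∈ I, aeval x f * a = 0) :
    n * f.natDegree ∣ finrank K I := by
  have : Fact (Irreducible f) := ⟨hf⟩
  let φ : Module.End K I := ((lm x).restrict hI).restrictScalars K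
  have hφ : ∀ a : I, ((φ a : I) : A) = x * a := fun a => rfl
  have hφg : ∀ (g : K[X]) (a : I), ((aeval φ g a : I) : A) = aeval x g * a := by
    intro g
    induction g using Polynomial.induction_on' with
    | add p q hp hq =>
      intro a
      rw [map_add, map_add, LinearMap.add_apply, Submodule.coe_add, hp, hq, add_mul]
    | monomial n c =>
      intro a
      rw [aeval_monomial, aeval_monomial, Module.End.mul_apply, mul_assoc]
      have h1 : ∀ n : ℕ, (((φ ^ n) a : I) : A) = x ^ n * a := by
        intro n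
        induction n with
        | zero => simp
        | succ n ih => rw [pow_succ', Module.End.mul_apply, hφ, ih, pow_succ', mul_assoc]
      rw [Module.algebraMap_end_apply, ← h1, ← Algebra.smul_def]
      rfl
  have hφ0 : aeval φ f = 0 := by
    ext a
    rw [hφg, hfI a a.2]; rfl
  let α : AdjoinRoot f →ₐ[K] Module.End K I := Ideal.Quotient.liftₐ (Ideal.span {f}) (aeval φ) (by
    intro g hg
    obtain ⟨h, rfl⟩ := Ideal.mem_span_singleton'.mp hg
    rw [map_mul, hφ0, mul_zero])
  let β : Aᵐᵒᵖ →ₐ[K] Module.End K I := Algebra.lsmul K K I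
  have hfin : FiniteDimensional K (AdjoinRoot f) := (AdjoinRoot.powerBasis hf.ne_zero).finite
  have hrank : finrank K (AdjoinRoot f) = f.natDegree := by
    rw [(AdjoinRoot.powerBasis hf.ne_zero).finrank, AdjoinRoot.powerBasis_dim]
  have hnop : finrank K Aᵐᵒᵖ = n ^ 2 := by
    rw [← hn]; exact (LinearEquiv.finrank_eq (MulOpposite.opLinearEquiv K : A ≃ₗ[K] Aᵐᵒᵖ)).symm
  have hfinop : FiniteDimensional K Aᵐᵒᵖ := Module.Finite.equiv (MulOpposite.opLinearEquiv K)
  have hfinI : FiniteDimensional K I := inferInstanceAs (FiniteDimensional K (I.restrictScalars K))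
  have := CSAModule.dvd_finrank_of_commuting K Aᵐᵒᵖ n hnop (AdjoinRoot f) I α β (by
    intro g b
    have h1 : ∀ g : AdjoinRoot f, ∃ h : K[X], α g = aeval φ h := by
      intro g
      obtain ⟨h, rfl⟩ := AdjoinRoot.mk_surjective g
      exact ⟨h, rfl⟩
    obtain ⟨h, hh⟩ := h1 g
    rw [hh]
    change (aeval φ h) * (β b) = (β b) * (aeval φ h)
    ext a
    rw [Module.End.mul_apply, Module.End.mul_apply, hφg]
    change aeval x h * (b • (a : A)) = b • ((aeval φ h a : I) : A)
    rw [hφg, ← lm_apply, map_smul, lm_apply])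
  rwa [hrank] at this

/-- If all irreducible factors of a non-zero polynomial killing `x` have degree `r` then the
dimension of every right ideal stable under `x` is divisible by `n * r`. -/
theorem dvd_finrank_ideal [Algebra.IsCentral K A] [IsSimpleRing A] [FiniteDimensional K A] (n : ℕ)
    (hn : finrank K A = n ^ 2) (x : A) (r : ℕ) (P : K[X]) (hP : P ≠ 0) (hPx : aeval x P = 0)
    (hr : ∀ f : K[X], Irreducible f → f ∣ P → f.natDegree = r) (d : ℕ) :
    ∀ I : Submodule Aᵐᵒᵖ A, (∀ a ∈ I, x * a ∈ I) → finrank K I = d → n * r ∣ finrank K I := by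
  induction d using Nat.strong_induction_on with
  | _ d ih =>
    intro I hI hd
    by_cases hbot : I = ⊥
    · rw [hbot]
      rw [Module.finrank_zero_of_subsingleton]; exact dvd_zero _
    · obtain ⟨a, ha, ha0⟩ := (Submodule.ne_bot_iff I).mp hbot
      obtain ⟨f, hf, hfP, b, hb, hb0, hfb⟩ := exists_irreducible_factor x I hI P hP a ha ha0
        (by rw [hPx, zero_mul])
      let T : A := aeval x f
      let I' : Submodule Aᵐᵒᵖ A := I.map (lm T)
      let I'' : Submodule Aᵐᵒᵖ A := I ⊓ LinearMap.ker (lm T)
      have hcomm : x * T = T * x := by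
        have h1 : aeval x (X * f) = aeval x (f * X) := by rw [mul_comm]
        rw [map_mul, map_mul, aeval_X] at h1
        exact h1
      have hI' : ∀ a ∈ I', x * a ∈ I' := by
        rintro _ ⟨c, hc, rfl⟩
        refine ⟨x * c, hI c hc, ?_⟩
        rw [lm_apply, lm_apply, ← mul_assoc, ← mul_assoc, hcomm]
      have hI'' : ∀ a ∈ I'', x * a ∈ I'' := by
        rintro c ⟨hc, hc'⟩
        refine ⟨hI c hc, ?_⟩
        have h1 : T * c = 0 := hc'
        change T * (x * c) = 0
        rw [← mul_assoc, ← hcomm, mul_assoc, h1, mul_zero]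
      have hk : ∀ a ∈ I'', aeval x f * a = 0 := fun a ha => ha.2
      have hfinI : FiniteDimensional K I := inferInstanceAs (FiniteDimensional K (I.restrictScalars K))
      have hfinI'' : FiniteDimensional K I'' := inferInstanceAs (FiniteDimensional K (I''.restrictScalars K))
      let ψ : I →ₗ[K] A := ((lm T).comp I.subtype).restrictScalars K
      have hψ : finrank K (LinearMap.range ψ) + finrank K (LinearMap.ker ψ) = finrank K I :=
        LinearMap.finrank_range_add_finrank_ker ψ
      have h1 : finrank K (LinearMap.range ψ) = finrank K I' := by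
        have : LinearMap.range ψ = I'.restrictScalars K := by
          ext z
          constructor
          · rintro ⟨w, rfl⟩
            exact ⟨w, w.2, rfl⟩
          · rintro ⟨w, hw, rfl⟩
            exact ⟨⟨w, hw⟩, rfl⟩
        rw [this]; rfl
      have h2 : finrank K (LinearMap.ker ψ) = finrank K I'' := by
        let e : LinearMap.ker ψ ≃ₗ[K] I'' :=
          { toFun := fun w => ⟨w.1.1, w.1.2, w.2⟩
            map_add' := fun _ _ => rfl
            map_smul' := fun _ _ => rfl
            invFun := fun w => ⟨⟨w.1, w.2.1⟩, w.2.2⟩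
            left_inv := fun _ => rfl
            right_inv := fun _ => rfl }
        exact e.finrank_eq
      have hpos : 0 < finrank K I'' := by
        have : Nontrivial I'' := ⟨⟨⟨b, hb, hfb⟩, 0, fun h => hb0 (congrArg Subtype.val h)⟩⟩
        exact Module.finrank_pos
      have h3 := dvd_finrank_killed n hn x f hf I'' hI'' hk
      rw [hr f hf hfP] at h3
      have h4 : n * r ∣ finrank K I' := ih (finrank K I') (by omega) I' hI' rfl
      rw [← hψ, h1, h2]
      exact dvd_add h4 h3

theorem dvd_degree [Algebra.IsCentral K A] [IsSimpleRing A] [FiniteDimensional K A] (n : ℕ)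
    (hn : finrank K A = n ^ 2) (x : A) (r : ℕ) (P : K[X]) (hP : P ≠ 0) (hPx : aeval x P = 0)
    (hr : ∀ f : K[X], Irreducible f → f ∣ P → f.natDegree = r) : r ∣ n := by
  have h1 := dvd_finrank_ideal n hn x r P hP hPx hr _ (⊤ : Submodule Aᵐᵒᵖ A) (fun a _ => trivial) rfl
  have h2 : finrank K (⊤ : Submodule Aᵐᵒᵖ A) = n ^ 2 := by
    rw [← hn]
    let e : (⊤ : Submodule Aᵐᵒᵖ A) ≃ₗ[K] A :=
      { toFun := fun w => w.1
        map_add' := fun _ _ => rfl
        map_smul' := fun _ _ => rfl
        invFun := fun w => ⟨w, trivial⟩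
        left_inv := fun _ => rfl
        right_inv := fun _ => rfl }
    exact e.finrank_eq
  rw [h2, pow_two] at h1
  have hn0 : 0 < n := by
    rcases Nat.eq_zero_or_pos n with h | h
    · subst h
      have : 0 < finrank K A := Module.finrank_pos
      rw [hn] at this
      simp at this
    · exact h
  exact Nat.dvd_of_mul_dvd_mul_left hn0 h1

/-- The minimal polynomial of an element some power of which is central. -/
theorem minpoly_form (hK : ∀ n : ℕ, 0 < n → (X ^ n - 1 : K[X]).Splits)
    [Algebra.IsCentral K A] [IsSimpleRing A] [FiniteDimensional K A]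
    (n : ℕ) (hn : Module.finrank K A = n ^ 2)
    (x : A) (hx : IsUnit x) (hxm : ∃ m : ℕ, 0 < m ∧ x ^ m ∈ (algebraMap K A).range) :
    ∃ r : ℕ, 0 < r ∧ r ∣ n ∧ ∃ s : Multiset K, minpoly K x = (s.map fun a : K => X ^ r - C a).prod := by
  obtain ⟨m, hm, a, ha⟩ := hxm
  have ha0 : a ≠ 0 := by
    rintro rfl
    rw [map_zero] at ha
    have := hx.pow m
    rw [← ha] at this
    exact not_isUnit_zero this
  obtain ⟨r, hr, hform⟩ := RootFactors.exists_factor_form hK m hm a ha0
  have hint : IsIntegral K x := Algebra.IsIntegral.isIntegral x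
  have hdvd : minpoly K x ∣ X ^ m - C a := minpoly.dvd K x (by simp [ha])
  refine ⟨r, hr, ?_, RootFactors.exists_prod_form m a (minpoly K x) (minpoly.monic hint) hdvd r hform⟩
  refine dvd_degree n hn x r (minpoly K x) (minpoly.ne_zero hint) (minpoly.aeval K x) ?_
  classical
  intro f hf hfd
  have h1 : (normalize f).Monic := monic_normalize hf.ne_zero
  have h2 : Irreducible (normalize f) := (normalize_associated f).symm.irreducible hf
  obtain ⟨b, hb⟩ := hform _ h1 h2 (((normalize_associated f).dvd).trans (hfd.trans hdvd))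
  have h3 : (normalize f).natDegree = f.natDegree := natDegree_eq_of_degree_eq degree_normalize
  rw [← h3, hb, natDegree_X_pow_sub_C]

/-- In a division algebra of dimension `n ^ 2`, if a power of `x` is central then so is `x ^ n`. -/
theorem pow_degree_mem {A : Type v} [DivisionRing A] [Algebra K A]
    (hK : ∀ n : ℕ, 0 < n → (X ^ n - 1 : K[X]).Splits)
    [Algebra.IsCentral K A] [FiniteDimensional K A]
    (n : ℕ) (hn : Module.finrank K A = n ^ 2)
    (x : A) (hxm : ∃ m : ℕ, 0 < m ∧ x ^ m ∈ (algebraMap K A).range) :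
    x ^ n ∈ (algebraMap K A).range := by
  have hn0 : n ≠ 0 := by
    rintro rfl
    have : 0 < finrank K A := Module.finrank_pos
    rw [hn] at this
    simp at this
  by_cases hx0 : x = 0
  · exact ⟨0, by rw [hx0, zero_pow hn0, map_zero]⟩
  obtain ⟨r, hr, ⟨t, rfl⟩, s, hs⟩ := minpoly_form hK n hn x (isUnit_iff_ne_zero.mpr hx0) hxm
  have h0 := minpoly.aeval K x
  rw [hs] at h0
  have h1 : ∃ a ∈ s, x ^ r = algebraMap K A a := by
    clear hs
    induction s using Multiset.induction_on with
    | empty => simp at h0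
    | cons a s ih =>
      rw [Multiset.map_cons, Multiset.prod_cons, map_mul] at h0
      rcases mul_eq_zero.mp h0 with h | h
      · refine ⟨a, Multiset.mem_cons_self a s, ?_⟩
        simpa [sub_eq_zero] using h
      · obtain ⟨b, hb, hb'⟩ := ih h
        exact ⟨b, Multiset.mem_cons_of_mem hb, hb'⟩
  obtain ⟨a, _, ha⟩ := h1
  exact ⟨a ^ t, by rw [map_pow, ← ha, ← pow_mul]⟩

end K843.DegDvd
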