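import Mathlib.FieldTheory.Separable
import Mathlib.FieldTheory.Galois.Basic
import Mathlib.Algebra.Central.Basic
import Mathlib.Algebra.CharP.Defs
import Mathlib.Algebra.CharP.Lemmas
import Mathlib.Algebra.CharP.Algebra
import Mathlib.LinearAlgebra.Dimension.Finrank
import Mathlib.LinearAlgebra.Dimension.Free
import Mathlib.LinearAlgebra.FiniteDimensional.Basic
import Mathlib.RingTheory.Adjoin.Basic
import Mathlib.FieldTheory.Minpoly.Finite

/-!
# Division algebras of prime degree: subalgebras
-/

set_option autoImplicit false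
open Polynomial Module

namespace K843.DivAlg

universe u v w

variable {K : Type u} [Field K] {A : Type v} [DivisionRing A] [Algebra K A] [FiniteDimensional K A]

/-- The dimension of a subalgebra of a division algebra divides the dimension of the algebra. -/
theorem finrank_dvd (S : Subalgebra K A) : finrank K S ∣ finrank K A := by
  let _ : DivisionRing S := divisionRingOfFiniteDimensional K S
  exact Module.finrank_dvd_finrank_right K S A

omit [FiniteDimensional K A] in
theorem mem_range_of_commutes [Algebra.IsCentral K A] {a : A} (h : ∀ b : A, a * b = b * a) :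
    a ∈ (algebraMap K A).range := by
  have h1 : a ∈ Subalgebra.center K A := Subalgebra.mem_center_iff.mpr fun b => (h b).symm
  rw [Algebra.IsCentral.center_eq_bot, Algebra.mem_bot] at h1
  exact h1

theorem finrank_adjoin [Algebra.IsCentral K A] {p : ℕ} (hp : p.Prime) (hA : finrank K A = p ^ 2) (y : A)
    (hy : y ∉ (algebraMap K A).range) : finrank K (Algebra.adjoin K {y}) = p := by
  have h1 := finrank_dvd (Algebra.adjoin K {y})
  rw [hA, Nat.dvd_prime_pow hp] at h1
  obtain ⟨i, hi, h1⟩ := h1
  have hi0 : i ≠ 0 := by
    rintro rfl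
    rw [pow_zero, Subalgebra.finrank_eq_one_iff] at h1
    apply hy
    have h2 : y ∈ Algebra.adjoin K {y} := Algebra.self_mem_adjoin_singleton K y
    rw [h1, Algebra.mem_bot] at h2
    exact h2
  have hi2 : i ≠ 2 := by
    rintro rfl
    have h2 : Algebra.adjoin K {y} = ⊤ := by
      rw [← hA] at h1
      exact Algebra.toSubmodule_eq_top.mp (Submodule.eq_top_of_finrank_eq h1)
    apply hy
    apply mem_range_of_commutes
    intro b
    have hb : b ∈ Algebra.adjoin K {y} := by rw [h2]; trivial
    exact Algebra.commute_of_mem_adjoin_self hb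
  have : i = 1 := by omega
  rw [h1, this, pow_one]

/-- A subalgebra containing a non-central element `y` and something outside `K[y]` is everything
when the degree is prime. -/
theorem eq_top_of_not_mem [Algebra.IsCentral K A] {p : ℕ} (hp : p.Prime) (hA : finrank K A = p ^ 2) (y : A)
    (hy : y ∉ (algebraMap K A).range) (S : Subalgebra K A) (hyS : y ∈ S) (z : A) (hz : z ∈ S)
    (hzy : z * y ≠ y * z) : S = ⊤ := by
  have h0 := finrank_adjoin hp hA y hy
  have hle : Algebra.adjoin K {y} ≤ S := Algebra.adjoin_le (by simpa using hyS)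
  have hlt : finrank K (Algebra.adjoin K {y}) < finrank K S := by
    apply Submodule.finrank_lt_finrank_of_lt (s := Subalgebra.toSubmodule (Algebra.adjoin K {y}))
      (t := Subalgebra.toSubmodule S)
    refine lt_of_le_of_ne hle ?_
    intro h
    have h2 : z ∈ Algebra.adjoin K {y} := by
      have : z ∈ Subalgebra.toSubmodule S := hz
      rw [← h] at this
      exact this
    exact hzy (Algebra.commute_of_mem_adjoin_self h2).symm
  have h1 := finrank_dvd S
  rw [hA, Nat.dvd_prime_pow hp] at h1
  obtain ⟨i, hi, h1⟩ := h1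
  rw [h0, h1] at hlt
  have hi2 : i = 2 := by
    interval_cases i
    · rw [pow_zero] at hlt
      exact absurd hp.one_lt (by omega)
    · rw [pow_one] at hlt
      exact absurd hlt (lt_irrefl _)
    · rfl
  rw [hi2, ← hA] at h1
  exact Algebra.toSubmodule_eq_top.mp (Submodule.eq_top_of_finrank_eq h1)

/-- `p`-th powers kill the commutator: if `[v, x]` commutes with `v` then `v ^ p` commutes with
`x`. -/
theorem pow_char_comm (p : ℕ) [Fact p.Prime] [CharP K p] (v : A) :
    ((LinearMap.mulLeft K v - LinearMap.mulRight K v) ^ p : Module.End K A) =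
      LinearMap.mulLeft K (v ^ p) - LinearMap.mulRight K (v ^ p) := by
  have : CharP (Module.End K A) p := charP_of_injective_algebraMap
      (FaithfulSMul.algebraMap_injective K (Module.End K A)) p
  rw [sub_pow_char_of_commute p (LinearMap.commute_mulLeft_right v v), LinearMap.pow_mulLeft,
    LinearMap.pow_mulRight]

/-- In characteristic `p`, a separable polynomial having an element with `x ^ p ∈ K` as a root: `x`
is in `K`. -/
theorem mem_range_of_separable_of_pow (p : ℕ) [Fact p.Prime] [CharP K p] (v : A)
    (hv : v ^ p ∈ (algebraMap K A).range) (hsep : IsSeparable K v) : v ∈ (algebraMap K A).range := by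
  obtain ⟨a, ha⟩ := hv
  have hpp : p.Prime := Fact.out
  have hdvd : minpoly K v ∣ X ^ p - C a := minpoly.dvd K v (by simp [ha])
  have hint : IsIntegral K v := Algebra.IsIntegral.isIntegral v
  let E := AlgebraicClosure K
  let f : E[X] := (minpoly K v).map (algebraMap K E)
  have hfm : f.Monic := (minpoly.monic hint).map _
  have hfs : f.Splits := IsAlgClosed.splits f
  have hnd : f.roots.Nodup := nodup_roots (Polynomial.Separable.map hsep)
  have hroots : ∀ r ∈ f.roots, r ^ p = algebraMap K E a := by
    intro r hr
    have h1 : (X ^ p - C a : K[X]).map (algebraMap K E) = X ^ p - C (algebraMap K E a) := by simp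
    have h2 : f ∣ X ^ p - C (algebraMap K E a) := by rw [← h1]; exact Polynomial.map_dvd _ hdvd
    have h3 := eval_eq_zero_of_dvd_of_eval_eq_zero h2 (mem_roots'.mp hr).2
    simpa [sub_eq_zero] using h3
  have hchar : CharP E p := charP_of_injective_algebraMap (algebraMap K E).injective p
  have heq : ∀ r ∈ f.roots, ∀ s ∈ f.roots, r = s := by
    intro r hr s hs
    apply frobenius_inj E p
    rw [frobenius_def, frobenius_def, hroots r hr, hroots s hs]
  have hcard : f.roots.card ≤ 1 := by
    classical
    rw [← Multiset.toFinset_card_of_nodup hnd, Finset.card_le_one]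
    intro r hr s hs
    exact heq r (by simpa using hr) s (by simpa using hs)
  have hdeg : (minpoly K v).natDegree ≤ 1 := by
    rw [← hfs.natDegree_eq_card_roots, (minpoly.monic hint).natDegree_map] at hcard
    exact hcard
  have hdeg1 : (minpoly K v).natDegree = 1 := le_antisymm hdeg (minpoly.natDegree_pos hint)
  exact minpoly.mem_range_of_degree_eq_one K v (by
    rw [degree_eq_natDegree (minpoly.ne_zero hint), hdeg1]; rfl)

/-- The minimal polynomial of an element of a subalgebra of prime dimension. -/
theorem minpoly_natDegree_le (y : A) : (minpoly K y).natDegree ≤ finrank K (Algebra.adjoin K {y}) := by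
  have h := minpoly.natDegree_le (A := K) (⟨y, Algebra.self_mem_adjoin_singleton K y⟩ : Algebra.adjoin K {y})
  rwa [← minpoly.algHom_eq (Algebra.adjoin K {y}).val Subtype.val_injective] at h

/-- An inseparable element of a division algebra of degree `p` has `v ^ p ∈ K`, `v ∉ K`. -/
theorem pow_mem_of_not_separable [Algebra.IsCentral K A] (p : ℕ) [Fact p.Prime] [CharP K p]
    (hA : finrank K A = p ^ 2) (v : A) (hv : ¬ IsSeparable K v) :
    v ^ p ∈ (algebraMap K A).range ∧ v ∉ (algebraMap K A).range := by
  have hpp : p.Prime := Fact.out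
  have hint : IsIntegral K v := Algebra.IsIntegral.isIntegral v
  have hvK : v ∉ (algebraMap K A).range := by
    rintro ⟨a, rfl⟩
    exact hv (isSeparable_algebraMap a)
  refine ⟨?_, hvK⟩
  have hirr : Irreducible (minpoly K v) := minpoly.irreducible hint
  rcases separable_or p hirr with h | ⟨_, g, hg, hge⟩
  · exact absurd h hv
  · have hdeg : (minpoly K v).natDegree ≤ p := by
      have := minpoly_natDegree_le (K := K) v
      rwa [finrank_adjoin hpp hA v hvK] at this
    rw [← hge, natDegree_expand] at hdeg
    have hgpos : 0 < g.natDegree := hg.natDegree_pos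
    have hg1 : g.natDegree = 1 := by
      have h1 : g.natDegree * p ≤ 1 * p := by rwa [one_mul]
      have := Nat.le_of_mul_le_mul_right h1 hpp.pos
      omega
    have hgX := eq_X_add_C_of_natDegree_le_one hg1.le
    have h0 := minpoly.aeval K v
    rw [← hge, hgX] at h0
    simp only [map_add, map_mul, expand_C, expand_X, aeval_C, aeval_X_pow] at h0
    have hlead : g.coeff 1 ≠ 0 := by
      have := leadingCoeff_ne_zero.mpr hg.ne_zero
      rwa [leadingCoeff, hg1] at this
    refine ⟨-(g.coeff 1)⁻¹ * g.coeff 0, ?_⟩
    have h2 := congrArg (fun z => algebraMap K A (g.coeff 1)⁻¹ * z) h0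
    simp only [mul_add, ← mul_assoc, ← map_mul, inv_mul_cancel₀ hlead, map_one, one_mul, mul_zero] at h2
    rw [neg_mul, map_neg]
    exact (eq_neg_of_add_eq_zero_left h2).symm

/-- `(1) ⇒ (2)`. -/
theorem exists_commutator_eq_one [Algebra.IsCentral K A] (p : ℕ) [Fact p.Prime] [CharP K p]
    (hA : finrank K A = p ^ 2) (h : ∃ v : A, ¬ IsSeparable K v) :
    ∃ v u : A, v ^ p ∈ (algebraMap K A).range ∧ u ^ p ∈ (algebraMap K A).range ∧ v * u - u * v = 1 ∧
      Algebra.adjoin K {v, u} = ⊤ := by
  classical
  obtain ⟨v, hv⟩ := h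
  have hpp : p.Prime := Fact.out
  obtain ⟨hvp, hvK⟩ := pow_mem_of_not_separable p hA v hv
  let D : Module.End K A := LinearMap.mulLeft K v - LinearMap.mulRight K v
  have hD : ∀ x, D x = v * x - x * v := fun x => by simp [D]
  have hDp : D ^ p = 0 := by
    rw [pow_char_comm p v]
    obtain ⟨a, ha⟩ := hvp
    ext x
    simp only [LinearMap.sub_apply, LinearMap.mulLeft_apply, LinearMap.mulRight_apply,
      LinearMap.zero_apply]
    rw [← ha, Algebra.commutes, sub_self]
  obtain ⟨x, hx⟩ : ∃ x, D x ≠ 0 := by
    by_contra hcon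
    push Not at hcon
    apply hvK
    apply mem_range_of_commutes
    intro b
    have := hcon b
    rw [hD] at this
    exact sub_eq_zero.mp this
  have hex : ∃ k, (D ^ k) (D x) = 0 := ⟨p, by rw [hDp]; rfl⟩
  obtain ⟨m, hm⟩ : ∃ m, Nat.find hex = m + 1 := by
    refine ⟨Nat.find hex - 1, (Nat.succ_pred_eq_of_pos ?_).symm⟩
    rw [Nat.find_pos]
    simpa using hx
  let a : A := (D ^ m) x
  let b : A := D a
  have hcommD : ∀ (k : ℕ) (z : A), (D ^ k) (D z) = D ((D ^ k) z) := by
    intro k z
    rw [← Module.End.mul_apply, ← Module.End.mul_apply, ← pow_succ, ← pow_succ']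
  have hb : b ≠ 0 := by
    have h1 := Nat.find_min hex (m := m) (by omega)
    rw [hcommD] at h1
    exact h1
  have hDb : D b = 0 := by
    have h1 := Nat.find_spec hex
    rw [hm, pow_succ', Module.End.mul_apply, hcommD] at h1
    exact h1
  have hvb : v * b = b * v := by
    rw [hD] at hDb
    exact sub_eq_zero.mp hDb
  have hvb' : v * b⁻¹ = b⁻¹ * v := (Commute.inv_right₀ (a := v) (b := b) hvb)
  let u : A := b⁻¹ * a
  have hvu : v * u - u * v = 1 := by
    have h1 : v * a - a * v = b := (hD a).symm
    calc v * u - u * v = v * b⁻¹ * a - b⁻¹ * a * v := by rw [mul_assoc v]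
      _ = b⁻¹ * (v * a - a * v) := by rw [hvb', mul_sub, mul_assoc, mul_assoc]
      _ = 1 := by rw [h1, inv_mul_cancel₀ hb]
  have hne : u * v ≠ v * u := by
    intro h
    rw [h, sub_self] at hvu
    exact zero_ne_one hvu
  have htop : Algebra.adjoin K {v, u} = ⊤ :=
    eq_top_of_not_mem hpp hA v hvK _ (Algebra.subset_adjoin (by simp)) u
      (Algebra.subset_adjoin (by simp)) hne
  refine ⟨v, u, hvp, ?_, hvu, htop⟩
  apply mem_range_of_commutes
  intro c
  have hc : c ∈ Algebra.adjoin K {v, u} := by rw [htop]; trivial
  refine Algebra.commute_of_mem_adjoin_of_forall_mem_commute hc ?_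
  intro d hd
  rcases hd with rfl | hd
  · -- `u ^ p` commutes with `v`
    have h1 := congrArg (fun f : Module.End K A => f d) (pow_char_comm (K := K) p u)
    obtain ⟨q, hq⟩ : ∃ q, p = q + 2 := ⟨p - 2, by have := hpp.two_le; omega⟩
    have h2 : ((LinearMap.mulLeft K u - LinearMap.mulRight K u : Module.End K A) ^ p) d = 0 := by
      rw [hq, pow_add, Module.End.mul_apply]
      have h3 : ((LinearMap.mulLeft K u - LinearMap.mulRight K u : Module.End K A) ^ 2) d = 0 := by
        rw [pow_two, Module.End.mul_apply]
        have h4 : (LinearMap.mulLeft K u - LinearMap.mulRight K u : Module.End K A) d = -1 := by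
          simp only [LinearMap.sub_apply, LinearMap.mulLeft_apply, LinearMap.mulRight_apply]
          rw [← hvu]; abel
        rw [h4]; simp
      rw [h3, map_zero]
    have h3 : u ^ p * d - d * u ^ p = 0 := by
      rw [← h2]; rw [pow_char_comm (K := K) p u]; simp
    exact sub_eq_zero.mp h3
  · rw [Set.mem_singleton_iff] at hd
    subst hd
    exact (Commute.refl _).pow_left p

end K843.DivAlg
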