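import Groth.Agent.BddFin.K843.DivAlg
import Groth.Agent.CurvesA.SkolemNoether

/-!
# Division algebras of degree `p` in characteristic `p`: Galois subfields
-/

set_option autoImplicit false
open Polynomial Module K843.DivAlg

namespace K843.DivGal

universe u v w

variable {K : Type u} [Field K] {A : Type v} [DivisionRing A] [Algebra K A] [FiniteDimensional K A]

/-- Conjugation by a non-zero element of a division algebra. -/
noncomputable def conj (v : A) (hv : v ≠ 0) : A ≃ₐ[K] A :=
    { toFun := fun a => v * a * v⁻¹
      invFun := fun a => v⁻¹ * a * v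
      left_inv := fun a => by
        simp only [mul_assoc, inv_mul_cancel₀ hv, mul_one]
        rw [← mul_assoc, inv_mul_cancel₀ hv, one_mul]
      right_inv := fun a => by
        simp only [mul_assoc, mul_inv_cancel₀ hv, mul_one]
        rw [← mul_assoc, mul_inv_cancel₀ hv, one_mul]
      map_mul' := fun a b => by
        simp only [mul_assoc]
        rw [← mul_assoc v⁻¹ v, inv_mul_cancel₀ hv, one_mul]
      map_add' := fun a b => by rw [mul_add, add_mul]
      commutes' := fun k => by
        rw [← Algebra.commutes, mul_assoc, mul_inv_cancel₀ hv, mul_one] }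

omit [FiniteDimensional K A] in
theorem conj_apply (v : A) (hv : v ≠ 0) (a : A) : conj (K := K) v hv a = v * a * v⁻¹ := rfl

omit [FiniteDimensional K A] in
theorem galois_of_conj (p : ℕ) [Fact p.Prime] [CharP K p]
    (y v : A) (hv : v ≠ 0) (L : Type w) [Field L] [Algebra K L] [FiniteDimensional K L]
    (hrank : finrank K L = p) (f : L →ₐ[K] A)
    (hf : f.range = Algebra.adjoin K {y}) (h : v * y = (y + 1) * v) : IsGalois K L := by
  have hpp : p.Prime := Fact.out
  have hyS : y ∈ f.range := by rw [hf]; exact Algebra.self_mem_adjoin_singleton K y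
  obtain ⟨y', hy'⟩ := hyS
  have hy'' : f y' = y := hy'
  -- conjugation by `v ^ i`
  let c : A ≃ₐ[K] A := conj v hv
  have hc : c y = y + 1 := by
    rw [conj_apply, h, mul_assoc, mul_inv_cancel₀ hv, mul_one]
  have hci : ∀ i : ℕ, (c ^ i) y = y + (i : A) := by
    intro i
    induction i with
    | zero => simp
    | succ i ih =>
      rw [pow_succ', AlgEquiv.mul_apply, ih, map_add, hc, map_natCast]
      push_cast; abel
  have hmem : ∀ i : ℕ, ∀ s : L, (c ^ i) (f s) ∈ f.range := by
    intro i s
    have h1 : f.range ≤ f.range.comap ((c ^ i : A ≃ₐ[K] A) : A →ₐ[K] A) := by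
      rw [hf]
      apply Algebra.adjoin_le
      intro z hz
      rw [Set.mem_singleton_iff] at hz
      subst hz
      have : (c ^ i) z ∈ Algebra.adjoin K {z} := by
        rw [hci]
        exact Subalgebra.add_mem _ (Algebra.self_mem_adjoin_singleton K z) (Subalgebra.natCast_mem _ i)
      exact this
    exact h1 (f.mem_range_self s)
  have hfinj : Function.Injective f := f.toRingHom.injective
  let e := AlgEquiv.ofInjective f hfinj
  let τ : ℕ → (L →ₐ[K] L) := fun i =>
    ((e.symm : f.range ≃ₐ[K] L) : f.range →ₐ[K] L).comp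
      ((((c ^ i : A ≃ₐ[K] A) : A →ₐ[K] A).comp f).codRestrict f.range (hmem i))
  have hτ : ∀ i s, f (τ i s) = (c ^ i) (f s) := by
    intro i s
    have h1 : ∀ z : f.range, f (e.symm z) = z := by
      intro z
      have := congrArg Subtype.val (e.apply_symm_apply z)
      rw [AlgEquiv.ofInjective_apply] at this
      exact this
    exact h1 _
  have hcharA : CharP A p := charP_of_injective_algebraMap (algebraMap K A).injective p
  have hinj : Function.Injective (fun i : Fin p => τ i) := by
    intro i j hij
    have h1 : f (τ i y') = f (τ j y') := by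
      have : τ i = τ j := hij
      rw [this]
    rw [hτ, hτ, hy'', hci, hci, add_right_inj] at h1
    have h2 := (CharP.natCast_eq_natCast A p).mp h1
    apply Fin.ext
    have h3 := Nat.ModEq.eq_of_lt_of_lt h2 i.2 j.2
    exact h3
  apply IsGalois.of_card_aut_eq_finrank
  rw [hrank]
  apply le_antisymm
  · have h1 := AlgEquiv.card_le (F := K) (K := L)
    rwa [← Nat.card_eq_fintype_card, hrank] at h1
  · let e := Algebra.IsAlgebraic.algEquivEquivAlgHom K L
    have h1 := Nat.card_le_card_of_injective (fun i : Fin p => e.symm (τ i))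
      (e.symm.injective.comp hinj)
    rwa [Nat.card_eq_fintype_card, Fintype.card_fin] at h1

open scoped IsMulCommutative in
theorem exists_galois [Algebra.IsCentral K A] (p : ℕ) [Fact p.Prime] [CharP K p]
    (hA : Module.finrank K A = p ^ 2) (v u : A) (hvu : v * u - u * v = 1) :
    ∃ (L : Type v) (_ : Field L) (_ : Algebra K L), IsGalois K L ∧ Module.finrank K L = p ∧
      Nonempty (L →ₐ[K] A) := by
  have hpp : p.Prime := Fact.out
  have hv : v ≠ 0 := by
    rintro rfl
    simp at hvu
  let y : A := u * v
  have h : v * y = (y + 1) * v := by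
    have h1 : v * u = 1 + u * v := by rw [← hvu]; abel
    calc v * (u * v) = (v * u) * v := by rw [mul_assoc]
      _ = (u * v + 1) * v := by rw [h1, add_comm]
  have hyK : y ∉ (algebraMap K A).range := by
    rintro ⟨a, ha⟩
    rw [← ha, ← Algebra.commutes] at h
    have h2 : (1 : A) * v = 0 := by
      rw [add_mul] at h
      exact left_eq_add.mp h
    rw [one_mul] at h2
    exact hv h2
  have hrank := finrank_adjoin hpp hA y hyK
  letI inst : Field (Algebra.adjoin K {y}) := fieldOfFiniteDimensional K (Algebra.adjoin K {y})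
  refine ⟨Algebra.adjoin K {y}, inst, (Algebra.adjoin K {y}).algebra, ?_, hrank, ⟨(Algebra.adjoin K {y}).val⟩⟩
  exact galois_of_conj (K := K) (A := A) p y v hv (Algebra.adjoin K {y}) hrank
    (Algebra.adjoin K {y}).val (Subalgebra.range_val _) h

theorem exists_inseparable [Algebra.IsCentral K A] (p : ℕ) [Fact p.Prime] [CharP K p]
    (hA : Module.finrank K A = p ^ 2) (L : Type w) [Field L] [Algebra K L] [IsGalois K L]
    (hL : Module.finrank K L = p) (ι : L →ₐ[K] A) :
    ∃ v : A, ¬ IsSeparable K v := by
  have hpp : p.Prime := Fact.out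
  have hfin : FiniteDimensional K L := FiniteDimensional.of_finrank_pos (by rw [hL]; exact hpp.pos)
  have hcard : Nat.card (L ≃ₐ[K] L) = p := by rw [IsGalois.card_aut_eq_finrank, hL]
  obtain ⟨σ, hσ⟩ : ∃ σ : L ≃ₐ[K] L, σ ≠ 1 := by
    have : Nontrivial (L ≃ₐ[K] L) := by
      rw [← Finite.one_lt_card_iff_nontrivial, hcard]; exact hpp.one_lt
    exact exists_ne 1
  have hσp : σ ^ p = 1 := by rw [← hcard]; exact pow_card_eq_one'
  obtain ⟨b, hb⟩ : ∃ b, σ b ≠ b := by
    by_contra hcon
    push Not at hcon
    exact hσ (AlgEquiv.ext hcon)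
  obtain ⟨x, hx⟩ := Groth.Agent.CurvesA.SkolemNoether.skolemNoether K A L
    (ι.comp (σ : L →ₐ[K] L)) ι
  have hι : Function.Injective ι := ι.toRingHom.injective
  let v : A := x
  have hvι : ∀ l : L, v * ι l = ι (σ l) * v := by
    intro l
    have h1 := hx l
    have h2 : ι (σ l) = v * ι l * (x⁻¹ : Aˣ) := h1
    rw [h2, mul_assoc (v * ι l)]
    simp [v]
  have hvi : ∀ (i : ℕ) (l : L), v ^ i * ι l = ι ((σ ^ i) l) * v ^ i := by
    intro i
    induction i with
    | zero => intro l; simp
    | succ i ih =>
      intro l
      rw [pow_succ, mul_assoc, hvι, ← mul_assoc, ih, mul_assoc]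
      congr 2
  have hyK : ι b ∉ (algebraMap K A).range := by
    rintro ⟨k, hk⟩
    apply hb
    have : b = algebraMap K L k := by
      apply hι
      rw [← hk, AlgHom.commutes]
    rw [this, AlgEquiv.commutes]
  have hne : v * ι b ≠ ι b * v := by
    rw [hvι]
    intro h
    apply hb
    apply hι
    exact mul_right_cancel₀ x.ne_zero h
  have htop := eq_top_of_not_mem hpp hA (ι b) hyK (Algebra.adjoin K {ι b, v})
    (Algebra.subset_adjoin (by simp)) v (Algebra.subset_adjoin (by simp)) hne
  have hvp : v ^ p ∈ (algebraMap K A).range := by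
    apply mem_range_of_commutes
    intro c
    have hc : c ∈ Algebra.adjoin K {ι b, v} := by rw [htop]; trivial
    refine Algebra.commute_of_mem_adjoin_of_forall_mem_commute hc ?_
    intro d hd
    rcases hd with rfl | hd
    · have := hvi p b
      rw [hσp] at this
      exact this
    · rw [Set.mem_singleton_iff] at hd
      subst hd
      exact (Commute.refl _).pow_left p
  refine ⟨v, fun hsep => ?_⟩
  obtain ⟨k, hk⟩ := mem_range_of_separable_of_pow p v hvp hsep
  apply hne
  rw [← hk, Algebra.commutes]

end K843.DivGal
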