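import Mathlib.LinearAlgebra.Matrix.GeneralLinearGroup.Defs
import Mathlib.LinearAlgebra.Matrix.ToLinearEquiv
import Mathlib.LinearAlgebra.Matrix.Charpoly.Eigs
import Mathlib.Analysis.Complex.Polynomial.Basic
import Mathlib.Analysis.Normed.Ring.Lemmas
import Mathlib.Data.ZMod.Basic
import Mathlib.Tactic.NoncommRing
import Mathlib.Tactic.LinearCombination
import Mathlib.GroupTheory.OrderOfElement
import Mathlib.FieldTheory.IsAlgClosed.Spectrum

/-!
# Finite subgroups of `GL₂(ℤ)`: fixed vectors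
-/

set_option autoImplicit false
open Matrix

namespace K843.GL2Z

theorem one_add_pow_of_sq_zero {R : Type*} [Ring R] (N : R) (h : N * N = 0) (n : ℕ) :
    (1 + N) ^ n = 1 + n • N := by
  induction n with
  | zero => simp
  | succ n ih =>
    have : (1 + n • N) * (1 + N) = 1 + (n + 1) • N + n • (N * N) := by
      simp only [add_mul, mul_add, one_mul, mul_one, add_smul, one_smul, smul_mul_assoc]
      abel
    rw [pow_succ, ih, this, h, smul_zero, add_zero]

/-- A matrix with determinant one, with a non-zero fixed vector and of finite order is the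
identity. -/
theorem eq_one_of_det_eq_one (M : Matrix (Fin 2) (Fin 2) ℤ) (hdet : M.det = 1)
    (h0 : (M - 1).det = 0) (n : ℕ) (hn : 0 < n) (hM : M ^ n = 1) : M = 1 := by
  have hsq : (M - 1) * (M - 1) = 0 := by
    rw [Matrix.det_fin_two] at h0 hdet
    simp only [Matrix.sub_apply, Matrix.one_apply_eq, Matrix.one_apply_ne (show (0 : Fin 2) ≠ 1 by decide),
      Matrix.one_apply_ne (show (1 : Fin 2) ≠ 0 by decide), sub_zero] at h0
    have ht : M 0 0 + M 1 1 = 2 := by linear_combination hdet - h0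
    ext i j
    fin_cases i <;> fin_cases j <;> simp [Matrix.mul_apply, Fin.sum_univ_two, Matrix.sub_apply]
    · linear_combination (M 0 0) * ht - hdet
    · linear_combination (M 0 1) * ht
    · linear_combination (M 1 0) * ht
    · linear_combination (M 1 1) * ht - hdet
  have h1 := one_add_pow_of_sq_zero (M - 1) hsq n
  rw [add_sub_cancel, hM] at h1
  have h2 : n • (M - 1) = 0 := by
    rw [left_eq_add] at h1
    exact h1
  have h3 : M - 1 = 0 := by
    ext i j
    have h4 := congrFun (congrFun h2 i) j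
    simp only [Matrix.smul_apply, Matrix.zero_apply, smul_eq_zero] at h4
    rcases h4 with h4 | h4
    · omega
    · simpa using h4
  exact sub_eq_zero.mp h3

/-- If all elements of a finite subgroup of `GL₂(ℤ)` have a non-zero fixed vector then the whole
group has a non-zero fixed vector. -/
theorem exists_common_fixed (Γ : Subgroup (Matrix.GeneralLinearGroup (Fin 2) ℤ)) [Finite Γ]
    (h : ∀ γ ∈ Γ, ∃ v : Fin 2 → ℤ, v ≠ 0 ∧ (γ : Matrix (Fin 2) (Fin 2) ℤ) *ᵥ v = v) :
    ∃ v : Fin 2 → ℤ, v ≠ 0 ∧ ∀ γ ∈ Γ, (γ : Matrix (Fin 2) (Fin 2) ℤ) *ᵥ v = v := by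
  have hfix : ∀ γ ∈ Γ, ((γ : Matrix (Fin 2) (Fin 2) ℤ) - 1).det = 0 := by
    intro γ hγ
    rw [← Matrix.exists_mulVec_eq_zero_iff]
    obtain ⟨v, hv, h⟩ := h γ hγ
    exact ⟨v, hv, by rw [Matrix.sub_mulVec, h, Matrix.one_mulVec, sub_self]⟩
  have hfin : ∀ γ ∈ Γ, ∃ n : ℕ, 0 < n ∧ (γ : Matrix (Fin 2) (Fin 2) ℤ) ^ n = 1 := by
    intro γ hγ
    obtain ⟨n, hn, h1⟩ := (isOfFinOrder_iff_pow_eq_one (x := (⟨γ, hγ⟩ : Γ))).mp (isOfFinOrder_of_finite _)
    refine ⟨n, hn, ?_⟩
    have h2 : γ ^ n = 1 := by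
      have := congrArg (Subtype.val) h1
      simpa using this
    rw [← Units.val_pow_eq_pow_val, h2, Units.val_one]
  have hone : ∀ γ ∈ Γ, Matrix.GeneralLinearGroup.det γ = 1 → γ = 1 := by
    intro γ hγ hd
    obtain ⟨n, hn, h1⟩ := hfin γ hγ
    have hd' := congrArg Units.val hd
    rw [Matrix.GeneralLinearGroup.val_det_apply, Units.val_one] at hd'
    exact Units.ext (eq_one_of_det_eq_one _ hd' (hfix γ hγ) n hn h1)
  by_cases htriv : ∀ γ ∈ Γ, γ = 1
  · refine ⟨fun _ => 1, ?_, ?_⟩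
    · intro h0
      have := congrFun h0 0
      simp at this
    · intro γ hγ
      rw [htriv γ hγ, Units.val_one, Matrix.one_mulVec]
  · push Not at htriv
    obtain ⟨γ, hγ, hγ1⟩ := htriv
    obtain ⟨v, hv, hfv⟩ := h γ hγ
    refine ⟨v, hv, ?_⟩
    have hdet : ∀ δ ∈ Γ, δ ≠ 1 → Matrix.GeneralLinearGroup.det δ = -1 := by
      intro δ hδ hδ1
      rcases Int.units_eq_one_or (Matrix.GeneralLinearGroup.det δ) with h1 | h1
      · exfalso
        apply hδ1
        exact hone δ hδ h1
      · exact h1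
    intro δ hδ
    by_cases hδ1 : δ = 1
    · rw [hδ1, Units.val_one, Matrix.one_mulVec]
    · have h1 : Matrix.GeneralLinearGroup.det (δ * γ⁻¹) = 1 := by
        rw [map_mul, map_inv, hdet δ hδ hδ1, hdet γ hγ hγ1]
        rfl
      have h2 : δ * γ⁻¹ = 1 := by
        exact hone _ (Γ.mul_mem hδ (Γ.inv_mem hγ)) h1
      have h3 : δ = γ := by
        rw [mul_inv_eq_one] at h2
        exact h2
      rw [h3, hfv]

/-- For a matrix `M` of finite order in `Mat₂(ℤ)`, `|det (1 - M)| ≤ 4`. -/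
theorem natAbs_det_one_sub_le (M : Matrix (Fin 2) (Fin 2) ℤ) (n : ℕ) (hn : 0 < n) (hM : M ^ n = 1) :
    (1 - M).det.natAbs ≤ 4 := by
  let N : Matrix (Fin 2) (Fin 2) ℂ := M.map (Int.castRingHom ℂ)
  have hN : N ^ n = 1 := by
    have : N = (Int.castRingHom ℂ).mapMatrix M := rfl
    rw [this, ← map_pow, hM, map_one]
  have hev : N.charpoly.eval 1 = ((1 - M).det : ℂ) := by
    rw [Matrix.eval_charpoly]
    have : (Matrix.scalar (Fin 2) (1 : ℂ)) - N = (Int.castRingHom ℂ).mapMatrix (1 - M) := by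
      rw [map_sub, map_one, map_one]; rfl
    rw [this, ← RingHom.map_det]; simp
  have hroots : ∀ r ∈ N.charpoly.roots, ‖r‖ = 1 := by
    intro r hr
    have h1 : r ∈ spectrum ℂ N := by
      rw [Matrix.mem_spectrum_iff_isRoot_charpoly]
      exact (Polynomial.mem_roots'.mp hr).2
    have h2 : r ^ n ∈ spectrum ℂ (N ^ n) := spectrum.pow_mem_pow N n h1
    rw [hN, spectrum.one_eq, Set.mem_singleton_iff] at h2
    exact Complex.norm_eq_one_of_pow_eq_one h2 hn.ne'
  have hsplit : N.charpoly.Splits := IsAlgClosed.splits _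
  have hcard : N.charpoly.roots.card = 2 := by
    rw [← hsplit.natDegree_eq_card_roots, Matrix.charpoly_natDegree_eq_dim, Fintype.card_fin]
  have hprod : N.charpoly.eval 1 = (N.charpoly.roots.map (fun r => 1 - r)).prod := by
    conv_lhs => rw [hsplit.eq_prod_roots_of_monic (Matrix.charpoly_monic N)]
    rw [Polynomial.eval_multiset_prod, Multiset.map_map]
    congr 1
    apply Multiset.map_congr rfl
    intro x _
    simp
  have hle : ‖(N.charpoly.roots.map (fun r => 1 - r)).prod‖ ≤ 4 := by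
    rw [Multiset.card_eq_two] at hcard
    obtain ⟨a, b, hab⟩ := hcard
    have ha := hroots a (by rw [hab]; simp)
    have hb := hroots b (by rw [hab]; simp)
    rw [hab]
    simp only [Multiset.insert_eq_cons, Multiset.map_cons, Multiset.map_singleton, Multiset.prod_cons,
      Multiset.prod_singleton, norm_mul]
    have h1 : ‖1 - a‖ ≤ 2 := by
      calc ‖1 - a‖ ≤ ‖(1 : ℂ)‖ + ‖a‖ := norm_sub_le _ _
        _ = 2 := by rw [ha, norm_one]; norm_num
    have h2 : ‖1 - b‖ ≤ 2 := by
      calc ‖1 - b‖ ≤ ‖(1 : ℂ)‖ + ‖b‖ := norm_sub_le _ _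
        _ = 2 := by rw [hb, norm_one]; norm_num
    nlinarith [norm_nonneg (1 - a), norm_nonneg (1 - b)]
  rw [← hprod, hev, Complex.norm_intCast] at hle
  have h5 : (((1 - M).det.natAbs : ℤ) : ℝ) ≤ 4 := by
    rw [Int.natCast_natAbs, Int.cast_abs]
    exact hle
  exact_mod_cast h5

end K843.GL2Z
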