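import Groth.Agent.BddFin.K843.ActGpd
import Groth.Agent.S1544
import Groth.Agent.VarietyA.GeomRedSch
import Groth.Agent.Pic13.H557.GeoInt
import Groth.Agent.Ega2.H303.FibAlg
import Groth.Agent.S9501
import Groth.Agent.S0115
import Groth.Agent.CalgC.SepField
import Groth.Agent.EqInt.K957.Normal

/-!
# The generic fibre of a geometric quotient by a smooth group is smooth
-/

set_option autoImplicit false
universe u

open CategoryTheory CategoryTheory.Limits AlgebraicGeometry
open Groth.Agent.GrpQ.H766.GeomQuotDef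

attribute [local instance] Curv2.resAlgebra Curv2.stalkAlgebra

namespace K843.GenFib

/-- Smoothness from transitivity of a smooth groupoid. -/
theorem smooth_of_transitive {Z R B : Scheme.{u}} (f : Z ⟶ B) [LocallyOfFinitePresentation f]
    (s t : R ⟶ Z) (w : s ≫ f = t ≫ f) [Smooth s] (z₀ : Z) (hz₀ : z₀ ∈ f.smoothLocus)
    [Smooth t] (htr : ∀ x : Z, ∃ r : R, s r = x ∧ t r = z₀) : Smooth f := by
  let U := f.smoothLocus
  have hU : Smooth (U.ι ≫ f) := by
    rw [← Scheme.Hom.smoothLocus_eq_top_iff, ← Scheme.Hom.preimage_smoothLocus_eq]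
    simp [U]
  let W : R.Opens := t ⁻¹ᵁ U
  have h1 : Smooth ((W.ι ≫ s) ≫ f) := by
    have : (W.ι ≫ s) ≫ f = (t ∣_ U) ≫ (U.ι ≫ f) := by
      rw [Category.assoc, w, ← Category.assoc, ← morphismRestrict_ι, Category.assoc]
    rw [this]
    infer_instance
  have h2 : Surjective (W.ι ≫ s) := by
    constructor
    intro x
    obtain ⟨r, hr1, hr2⟩ := htr x
    have hr : r ∈ W := by
      change t r ∈ U
      rw [hr2]; exact hz₀
    exact ⟨(⟨r, hr⟩ : W.toScheme), hr1⟩
  exact Groth.Agent.S0115.result (W.ι ≫ s) f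

section germs

/-- Lifting finitely many germs to an affine neighbourhood. -/
theorem exists_common {X : Scheme.{u}} (x : X) (U : X.Opens) (hU : x ∈ U) (n : ℕ) :
    ∀ f : Fin n → X.presheaf.stalk x, ∃ (V : X.Opens) (hx : x ∈ V), V ≤ U ∧ IsAffineOpen V ∧
      ∀ i, ∃ t : Γ(X, V), (X.presheaf.germ V x hx).hom t = f i := by
  induction n with
  | zero =>
    intro f
    obtain ⟨V, hV, hxV, hle⟩ := exists_isAffineOpen_mem_and_subset (X := X) (x := x) (U := U) hU
    exact ⟨V, hxV, hle, hV, fun i => i.elim0⟩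
  | succ n ih =>
    intro f
    obtain ⟨V₁, hx₁, hle₁, hV₁, h₁⟩ := ih (fun i => f i.succ)
    obtain ⟨V₂, hx₂, t₂, ht₂⟩ := X.presheaf.exists_germ_eq (f 0)
    obtain ⟨V, hV, hxV, hle⟩ := exists_isAffineOpen_mem_and_subset (X := X) (x := x) (U := V₁ ⊓ V₂) ⟨hx₁, hx₂⟩
    have l1 : V ≤ V₁ := fun y hy => (hle hy).1
    have l2 : V ≤ V₂ := fun y hy => (hle hy).2
    refine ⟨V, hxV, l1.trans hle₁, hV, fun i => ?_⟩
    refine Fin.cases ?_ (fun j => ?_) i
    · refine ⟨(X.presheaf.map (homOfLE l2).op).hom t₂, ?_⟩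
      rw [← ht₂]
      exact congr($(X.presheaf.germ_res (homOfLE l2) x hxV) t₂)
    · obtain ⟨t, ht⟩ := h₁ j
      refine ⟨(X.presheaf.map (homOfLE l1).op).hom t, ?_⟩
      rw [← ht]
      exact congr($(X.presheaf.germ_res (homOfLE l1) x hxV) t)

end germs

section fibre

variable {X Y : Scheme.{u}} (π : X ⟶ Y) (y : Y) (z : π.fiber y)

theorem fiberι_apply : π (π.fiberι y z) = y := by
  have := π.range_fiberι y
  have h2 : π.fiberι y z ∈ π ⁻¹' {y} := this ▸ Set.mem_range_self z
  exact h2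

/-- evaluation of functions on `X` in the local ring of the fibre -/
noncomputable def ev (V : X.Opens) (hV : π.fiberι y z ∈ V) : Γ(X, V) →+* (π.fiber y).presheaf.stalk z :=
  ((π.fiberι y).stalkMap z).hom.comp (X.presheaf.germ V _ hV).hom

/-- the structure map of the local ring of the fibre -/
noncomputable def str : Y.residueField y →+* (π.fiber y).presheaf.stalk z :=
  ((π.fiber y).presheaf.germ ⊤ z trivial).hom.comp
    ((π.fiberToSpecResidueField y).appTop.hom.comp (Scheme.ΓSpecIso (Y.residueField y)).inv.hom)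

theorem ev_appLE (VY : Y.Opens) (hyV : y ∈ VY) (V : X.Opens) (hV : π.fiberι y z ∈ V) (hle : V ≤ π ⁻¹ᵁ VY)
    (s : Γ(Y, VY)) : ev π y z V hV ((π.appLE VY V hle).hom s) = str π y z ((Y.evaluation VY y hyV).hom s) := by
  have e1 : ev π y z V hV ((π.appLE VY V hle).hom s) =
      ((π.fiber y).presheaf.germ (π.fiberι y ⁻¹ᵁ V) z hV).hom (((π.fiberι y).app V).hom ((π.appLE VY V hle).hom s)) :=
    congr($(Scheme.Hom.germ_stalkMap (π.fiberι y) V z hV) ((π.appLE VY V hle).hom s))
  have t1 : ⊤ ≤ (π.fiberι y ≫ π) ⁻¹ᵁ VY := by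
    intro w _
    change (π.fiberι y ≫ π) w ∈ VY
    rw [Scheme.Hom.comp_apply, fiberι_apply]; exact hyV
  have t2 : π.fiberι y ⁻¹ᵁ V ≤ (π.fiberι y ≫ π) ⁻¹ᵁ VY := fun w _ => t1 trivial
  have e2 : ((π.fiberι y).app V).hom ((π.appLE VY V hle).hom s) =
      ((π.fiberι y ≫ π).appLE VY (π.fiberι y ⁻¹ᵁ V) t2).hom s := by
    have := Scheme.Hom.appLE_comp_appLE (π.fiberι y) π VY V (π.fiberι y ⁻¹ᵁ V) hle le_rfl
    rw [← this, CommRingCat.hom_comp, RingHom.comp_apply, Scheme.Hom.app_eq_appLE]
  have e3 : (π.fiberι y ≫ π).appLE VY (π.fiberι y ⁻¹ᵁ V) t2 =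
      (π.fiberι y ≫ π).appLE VY ⊤ t1 ≫ (π.fiber y).presheaf.map (homOfLE (le_top : π.fiberι y ⁻¹ᵁ V ≤ ⊤)).op := by
    rw [Scheme.Hom.appLE_map]
  have e4 : (π.fiberι y ≫ π).appLE VY ⊤ t1 =
      Y.evaluation VY y hyV ≫ (Scheme.ΓSpecIso (Y.residueField y)).inv ≫ (π.fiberToSpecResidueField y).appTop := by
    have h1 : ∀ (g : π.fiber y ⟶ Y) (hg : π.fiberι y ≫ π = g) (t : ⊤ ≤ g ⁻¹ᵁ VY),
        (π.fiberι y ≫ π).appLE VY ⊤ t1 = g.appLE VY ⊤ t := by
      intro g hg t
      subst hg
      rfl
    have h2 : π.fiberι y ≫ π = π.fiberToSpecResidueField y ≫ Y.fromSpecResidueField y := pullback.condition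
    have t3 : ⊤ ≤ (π.fiberToSpecResidueField y ≫ Y.fromSpecResidueField y) ⁻¹ᵁ VY := by rw [← h2]; exact t1
    rw [h1 _ h2 t3]
    have t4 : (⊤ : (Spec (Y.residueField y)).Opens) ≤ Y.fromSpecResidueField y ⁻¹ᵁ VY := by
      intro w _
      change Y.fromSpecResidueField y w ∈ VY
      rw [Scheme.fromSpecResidueField_apply]; exact hyV
    rw [← Scheme.Hom.appLE_comp_appLE (π.fiberToSpecResidueField y) (Y.fromSpecResidueField y) VY ⊤ ⊤ t4 le_top,
      Groth.Agent.Ega2.H303.FibAlg.fromSpecResidueField_appLE y hyV, Category.assoc]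
    congr 2
    exact Scheme.Hom.appLE_eq_app _
  rw [e1, e2, e3, e4]
  have g := (π.fiber y).presheaf.germ_res (homOfLE (le_top : π.fiberι y ⁻¹ᵁ V ≤ ⊤)) z hV
  exact congr($g _)

end fibre

section main

variable {R X Y : Scheme.{u}} {σ τ : R ⟶ X} {π : X ⟶ Y}

open SepAlg

theorem str_eq (y : Y) (z : π.fiber y) :
    letI : (π.fiber y).Over (Spec (CommRingCat.of (Y.residueField y))) := ⟨π.fiberToSpecResidueField y⟩
    str π y z = algebraMap (Y.residueField y) ((π.fiber y).presheaf.stalk z) := rfl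

theorem injective_of_isField {A B : Type*} [CommRing A] [CommRing B] [Nontrivial B] (hA : IsField A)
    (f : A →+* B) : Function.Injective f := by
  rw [injective_iff_map_eq_zero]
  intro a ha
  by_contra h
  obtain ⟨b, hb⟩ := hA.mul_inv_cancel h
  have h1 := congrArg f hb
  rw [map_mul, ha, zero_mul, map_one] at h1
  exact zero_ne_one h1

theorem fiberι_genericPoint [IrreducibleSpace X] [IrreducibleSpace Y] (hgen : π (genericPoint X) = genericPoint Y)
    [IrreducibleSpace (π.fiber (genericPoint Y))] :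
    π.fiberι (genericPoint Y) (genericPoint (π.fiber (genericPoint Y))) = genericPoint X := by
  have h1 : genericPoint X ∈ Set.range (π.fiberι (genericPoint Y)) := by
    rw [π.range_fiberι]
    exact hgen
  obtain ⟨w, hw⟩ := h1
  have h2 : genericPoint (π.fiber (genericPoint Y)) ⤳ w := genericPoint_specializes w
  have h3 := h2.map (π.fiberι (genericPoint Y)).continuous
  change π.fiberι (genericPoint Y) (genericPoint (π.fiber (genericPoint Y))) ⤳ π.fiberι (genericPoint Y) w at h3
  rw [hw] at h3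
  exact (h3.antisymm (genericPoint_specializes _)).eq

theorem ev_injective [IsIntegral X] [IsIntegral Y] (hgen : π (genericPoint X) = genericPoint Y)
    [IrreducibleSpace (π.fiber (genericPoint Y))] (V : X.Opens)
    (hV : π.fiberι (genericPoint Y) (genericPoint (π.fiber (genericPoint Y))) ∈ V) :
    Function.Injective (ev π (genericPoint Y) (genericPoint (π.fiber (genericPoint Y))) V hV) := by
  have h1 : IsField (X.presheaf.stalk (π.fiberι (genericPoint Y) (genericPoint (π.fiber (genericPoint Y))))) := by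
    rw [fiberι_genericPoint hgen]
    exact Field.toIsField X.functionField
  exact (injective_of_isField h1 ((π.fiberι (genericPoint Y)).stalkMap
    (genericPoint (π.fiber (genericPoint Y)))).hom).comp (germ_injective_of_isIntegral X _ hV)

/-- The function field of the generic fibre is geometrically reduced. -/
theorem isGeometricallyReduced (hG : InvDesc.Gpd σ τ) [Smooth σ] [Smooth τ] [IsIntegral X] [IsIntegral Y]
    (hq : IsGeomQuot σ τ π) (hgen : π (genericPoint X) = genericPoint Y) [IsIntegral (π.fiber (genericPoint Y))] :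
    letI : (π.fiber (genericPoint Y)).Over (Spec (CommRingCat.of (Y.residueField (genericPoint Y)))) :=
      ⟨π.fiberToSpecResidueField (genericPoint Y)⟩
    Algebra.IsGeometricallyReduced (Y.residueField (genericPoint Y)) (π.fiber (genericPoint Y)).functionField := by
  let _ : (π.fiber (genericPoint Y)).Over (Spec (CommRingCat.of (Y.residueField (genericPoint Y)))) :=
      ⟨π.fiberToSpecResidueField (genericPoint Y)⟩
  obtain ⟨p, hp⟩ := CharP.exists (Y.residueField (genericPoint Y))
  rcases CharP.char_is_prime_or_zero (Y.residueField (genericPoint Y)) p with hpp | hp0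
  swap
  · subst hp0
    have : CharZero (Y.residueField (genericPoint Y)) := CharP.charP_to_charZero _
    exact Groth.Agent.CalgC.SepField.isGeometricallyReduced_of_perfectField _ _
  have : Fact p.Prime := ⟨hpp⟩
  let y := genericPoint Y
  let z : π.fiber y := genericPoint (π.fiber y)
  let k : Type u := Y.residueField (genericPoint Y)
  let F : Type u := (π.fiber (genericPoint Y)).functionField
  have hsurj : Function.Surjective ((π.fiberι y).stalkMap z).hom := (Groth.Agent.S9501.result π y z).1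
  apply isGeometricallyReduced_of_inv (k := Y.residueField (genericPoint Y)) (F := (π.fiber (genericPoint Y)).functionField) p
  intro n c₀ c f hPI hrel i
  -- lift the coefficients
  have hcl : ∀ j : Fin (n + 1), ∃ t : Y.presheaf.stalk y, (Y.residue y).hom t = (Fin.cons c₀ c : Fin (n + 1) → k) j :=
    fun j => Y.residue_surjective y _
  choose ct hct using hcl
  obtain ⟨VY, hyVY, -, hVYaff, hcs⟩ := exists_common y ⊤ trivial (n + 1) ct
  choose cs hcs using hcs
  have hcs' : ∀ j, (Y.evaluation VY y hyVY).hom (cs j) = (Fin.cons c₀ c : Fin (n + 1) → k) j := by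
    intro j
    rw [← hct j, ← hcs j]
    rfl
  -- lift the functions
  have hfl : ∀ j, ∃ t : X.presheaf.stalk (π.fiberι y z), ((π.fiberι y).stalkMap z).hom t = f j :=
    fun j => hsurj _
  choose ft hft using hfl
  obtain ⟨V, hxV, hVle, hVaff, hfs⟩ := exists_common (π.fiberι y z) (π ⁻¹ᵁ VY) (by
    change π (π.fiberι y z) ∈ VY
    rw [fiberι_apply]; exact hyVY) n ft
  choose fs hfs using hfs
  have hfs' : ∀ j, ev π y z V hxV (fs j) = f j := by
    intro j
    rw [← hft j, ← hfs j]
    rfl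
  have hne : Nonempty V := ⟨⟨_, hxV⟩⟩
  have hinj : Function.Injective (ev π y z V hxV) := ev_injective hgen V hxV
  -- the coefficients as functions on `V`
  let C : Fin (n + 1) → Γ(X, V) := fun j => (π.appLE VY V hVle).hom (cs j)
  have hC : ∀ j, ev π y z V hxV (C j) = algebraMap k F ((Fin.cons c₀ c : Fin (n + 1) → k) j) := by
    intro j
    rw [← hcs' j]
    exact ev_appLE π y z VY hyVY V hxV hVle (cs j)
  have hcharF : CharP F p := charP_of_injective_algebraMap (algebraMap k F).injective p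
  have hcharV : CharP Γ(X, V) p := (ev π y z V hxV).charP hinj p
  have hinvC : ∀ j, InvSec σ τ V (C j) := by
    intro j
    unfold InvSec
    have t1 : σ ⁻¹ᵁ V ⊓ τ ⁻¹ᵁ V ≤ (σ ≫ π) ⁻¹ᵁ VY := fun r hr => hVle hr.1
    have t2 : σ ⁻¹ᵁ V ⊓ τ ⁻¹ᵁ V ≤ (τ ≫ π) ⁻¹ᵁ VY := fun r hr => hVle hr.2
    have e1 := Scheme.Hom.appLE_comp_appLE σ π VY V (σ ⁻¹ᵁ V ⊓ τ ⁻¹ᵁ V) hVle inf_le_left
    have e2 := Scheme.Hom.appLE_comp_appLE τ π VY V (σ ⁻¹ᵁ V ⊓ τ ⁻¹ᵁ V) hVle inf_le_right
    have e3 : ∀ (g : R ⟶ Y) (hg : σ ≫ π = g) (t : σ ⁻¹ᵁ V ⊓ τ ⁻¹ᵁ V ≤ g ⁻¹ᵁ VY),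
        (σ ≫ π).appLE VY _ t1 = g.appLE VY _ t := by
      intro g hg t
      subst hg
      rfl
    have e4 := e3 (τ ≫ π) hq.w.symm t2
    rw [← e1, ← e2] at e4
    exact congr($e4 (cs j))
  have hrelV : C 0 + ∑ j : Fin n, C j.succ * fs j ^ p = 0 := by
    apply hinj
    rw [map_add, map_sum, map_zero, hC, Fin.cons_zero, ← hrel]
    congr 1
    apply Finset.sum_congr rfl
    intro j _
    rw [map_mul, map_pow, hC, Fin.cons_succ, hfs']
  have hPIV : PIndep p (fun j : Fin n => algebraMap Γ(X, V) (FractionRing Γ(X, V)) (C j.succ)) := by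
    let Φ : FractionRing Γ(X, V) →+* F := IsFractionRing.lift (g := ev π y z V hxV) hinj
    intro g hg
    have h1 : ∑ j, algebraMap k F (c j) * (Φ (g j)) ^ p = 0 := by
      have h2 := congrArg Φ hg
      rw [map_sum, map_zero] at h2
      rw [← h2]
      apply Finset.sum_congr rfl
      intro j _
      rw [map_mul, map_pow]
      congr 1
      change _ = IsFractionRing.lift (g := ev π y z V hxV) hinj _
      rw [IsFractionRing.lift_algebraMap, hC, Fin.cons_succ]
    have h2 := hPI _ h1
    ext j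
    have h3 := congrFun h2 j
    exact (map_eq_zero Φ).mp h3
  have hinv := ActGpd.invSec_of_relation (σ := σ) (τ := τ) p hVaff (C 0) (fun j => C j.succ) fs hPIV hrelV (hinvC 0)
    (fun j => hinvC j.succ) i
  obtain ⟨VY', hV', s, hs⟩ := InvDesc.exists_descent hG hq V (fs i) hinv
  have hyVY' : y ∈ VY' := by
    have h1 : π (π.fiberι y z) ∈ VY' := hV' hxV
    rwa [fiberι_apply] at h1
  refine ⟨(Y.evaluation VY' y hyVY').hom s, ?_⟩
  rw [← hfs' i, ← hs]
  exact (ev_appLE π y z VY' hyVY' V hxV hV' s).symm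

/-- **The generic fibre of a geometric quotient by a smooth groupoid is smooth.** -/
theorem smooth_fiber (hG : InvDesc.Gpd σ τ) [Smooth σ] [Smooth τ] [IsIntegral X] [IsIntegral Y]
    [LocallyOfFiniteType π] (hq : IsGeomQuot σ τ π) (hgen : π (genericPoint X) = genericPoint Y) :
    Smooth (π.fiberToSpecResidueField (genericPoint Y)) := by
  have hint : IsIntegral (π.fiber (genericPoint Y)) :=
    Groth.Agent.Pic13.H557.GeoInt.isIntegral_genericFiber π hgen
  let y := genericPoint Y
  let _ : (π.fiber (genericPoint Y)).Over (Spec (CommRingCat.of (Y.residueField (genericPoint Y)))) :=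
      ⟨π.fiberToSpecResidueField (genericPoint Y)⟩
  have h1 := isGeometricallyReduced hG hq hgen
  have h2 : GeometricallyReduced (π.fiberToSpecResidueField (genericPoint Y)) :=
    (Groth.Agent.S1544.result (Y.residueField (genericPoint Y)) (π.fiber (genericPoint Y))).mpr h1
  have hlft : LocallyOfFiniteType (π.fiberToSpecResidueField (genericPoint Y)) :=
    inferInstanceAs (LocallyOfFiniteType (pullback.snd π (Y.fromSpecResidueField (genericPoint Y))))
  have hlfp : LocallyOfFinitePresentation (π.fiberToSpecResidueField (genericPoint Y)) := inferInstance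
  have h3 := Groth.Agent.VarietyA.GeomRedSch.dense_smoothLocus (Y.residueField (genericPoint Y))
    (π.fiberToSpecResidueField (genericPoint Y))
  obtain ⟨z₀, hz₀⟩ := h3.nonempty
  -- the groupoid on the fibre
  have hτ : (σ ≫ π).fiberι y ≫ τ ≫ π = (σ ≫ π).fiberToSpecResidueField y ≫ Y.fromSpecResidueField y := by
    rw [hq.w]; exact pullback.condition
  have hσ : ((σ ≫ π).fiberι y ≫ σ) ≫ π = (σ ≫ π).fiberToSpecResidueField y ≫ Y.fromSpecResidueField y := by
    rw [Category.assoc]; exact pullback.condition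
  let s : (σ ≫ π).fiber y ⟶ π.fiber y := pullback.lift ((σ ≫ π).fiberι y ≫ σ) ((σ ≫ π).fiberToSpecResidueField y) hσ
  let t : (σ ≫ π).fiber y ⟶ π.fiber y := pullback.lift ((σ ≫ π).fiberι y ≫ τ) ((σ ≫ π).fiberToSpecResidueField y)
    (by rw [Category.assoc]; exact hτ)
  have hs1 : s ≫ π.fiberι y = (σ ≫ π).fiberι y ≫ σ := pullback.lift_fst _ _ _
  have hs2 : s ≫ π.fiberToSpecResidueField y = (σ ≫ π).fiberToSpecResidueField y := pullback.lift_snd _ _ _
  have ht1 : t ≫ π.fiberι y = (σ ≫ π).fiberι y ≫ τ := pullback.lift_fst _ _ _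
  have ht2 : t ≫ π.fiberToSpecResidueField y = (σ ≫ π).fiberToSpecResidueField y := pullback.lift_snd _ _ _
  have hpb : IsPullback (π.fiberToSpecResidueField y) (π.fiberι y) (Y.fromSpecResidueField y) π :=
    (IsPullback.of_hasPullback π (Y.fromSpecResidueField y)).flip
  have hpbR : IsPullback ((σ ≫ π).fiberToSpecResidueField y) ((σ ≫ π).fiberι y) (Y.fromSpecResidueField y) (σ ≫ π) :=
    (IsPullback.of_hasPullback (σ ≫ π) (Y.fromSpecResidueField y)).flip
  have hss : Smooth s := by
    have h4 : IsPullback s ((σ ≫ π).fiberι y) (π.fiberι y) σ :=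
      IsPullback.of_right (by rw [hs2]; exact hpbR) hs1 hpb
    exact MorphismProperty.of_isPullback (P := @Smooth) h4.flip inferInstance
  have hts : Smooth t := by
    have h4 : IsPullback t ((σ ≫ π).fiberι y) (π.fiberι y) τ :=
      IsPullback.of_right (by rw [ht2, hq.w]; exact hpbR) ht1 hpb
    exact MorphismProperty.of_isPullback (P := @Smooth) h4.flip inferInstance
  refine smooth_of_transitive (π.fiberToSpecResidueField (genericPoint Y)) s t (hs2.trans ht2.symm) z₀ hz₀ ?_
  intro w
  obtain ⟨r, hr1, hr2⟩ := hq.rel (π.fiberι y z₀) (π.fiberι y w) ((fiberι_apply π y z₀).trans (fiberι_apply π y w).symm)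
  have hr : r ∈ Set.range ((σ ≫ π).fiberι y) := by
    rw [(σ ≫ π).range_fiberι]
    change (σ ≫ π) r = y
    rw [Scheme.Hom.comp_apply, hr2]
    exact fiberι_apply π y w
  obtain ⟨r', rfl⟩ := hr
  refine ⟨r', ?_, ?_⟩
  · apply (π.fiberι y).isEmbedding.injective
    rw [← Scheme.Hom.comp_apply, hs1, Scheme.Hom.comp_apply]
    exact hr2
  · apply (π.fiberι y).isEmbedding.injective
    rw [← Scheme.Hom.comp_apply, ht1, Scheme.Hom.comp_apply]
    exact hr1

end main

end K843.GenFib
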