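import Groth.Agent.EqInt.K957.Sections
import Groth.Agent.GrpQ.H766.GeomQuotDef
import Mathlib.AlgebraicGeometry.Sites.Fpqc
import Mathlib.AlgebraicGeometry.Morphisms.FlatDescent

/-!
# Invariant rational functions descend to a geometric quotient
-/

set_option autoImplicit false
universe u

open CategoryTheory CategoryTheory.Limits AlgebraicGeometry TopologicalSpace
open K957.Sections Groth.Agent.GrpQ.H766.GeomQuotDef

namespace K843.InvDesc

/-- a groupoid relation `σ, τ : R ⇉ X` -/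
structure Gpd {R X : Scheme.{u}} (σ τ : R ⟶ X) : Prop where
  refl : ∃ e : X ⟶ R, e ≫ σ = 𝟙 X ∧ e ≫ τ = 𝟙 X
  symm : ∃ i : R ⟶ R, i ≫ σ = τ ∧ i ≫ τ = σ
  trans : ∀ {W : Scheme.{u}} (r₁ r₂ : W ⟶ R), r₁ ≫ τ = r₂ ≫ σ →
    ∃ r : W ⟶ R, r ≫ σ = r₁ ≫ σ ∧ r ≫ τ = r₂ ≫ τ

section sec

variable {X : Scheme.{u}} (V : X.Opens)

/-- a section over `V` as a morphism to the affine line -/
noncomputable def secMor (f : Γ(X, V)) : V.toScheme ⟶ Spec R₀.{u} :=
  toA V.toScheme ((V.ι.appLE V ⊤ (top_le_ι V)).hom f)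

theorem secMor_injective {f g : Γ(X, V)} (h : secMor V f = secMor V g) : f = g := by
  have := isIso_ι_appLE V
  have hinj : Function.Injective (V.ι.appLE V ⊤ (top_le_ι _)).hom :=
    (ConcreteCategory.bijective_of_isIso (V.ι.appLE V ⊤ (top_le_ι _))).1
  exact hinj (toA_injective h)

theorem exists_secMor (F : V.toScheme ⟶ Spec R₀.{u}) : ∃ f, secMor V f = F := by
  obtain ⟨s, hs⟩ := exists_toA F
  have := isIso_ι_appLE V
  have hsurj : Function.Surjective (V.ι.appLE V ⊤ (top_le_ι _)).hom :=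
    (ConcreteCategory.bijective_of_isIso (V.ι.appLE V ⊤ (top_le_ι _))).2
  obtain ⟨f, hf⟩ := hsurj s
  exact ⟨f, by rw [secMor, hf, hs]⟩

theorem comp_secMor {W : Scheme.{u}} (g : W ⟶ V) (f : Γ(X, V)) {h : W ⟶ X} (e : g ≫ V.ι = h)
    (e' : ⊤ ≤ h ⁻¹ᵁ V) : g ≫ secMor V f = toA W ((h.appLE V ⊤ e').hom f) := by
  rw [secMor, comp_toA, appTop_ι V g f e e']

theorem homOfLE_secMor {V' : X.Opens} (hle : V' ≤ V) (f : Γ(X, V)) :
    X.homOfLE hle ≫ secMor V f = secMor V' ((X.presheaf.map (homOfLE hle).op).hom f) := by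
  rw [comp_secMor V (X.homOfLE hle) f (X.homOfLE_ι hle) (fun x _ => hle x.2), secMor]
  congr 1
  have := Scheme.Hom.map_appLE V'.ι (top_le_ι V') (homOfLE hle).op
  rw [← this]
  rfl

end sec

variable {R X Y : Scheme.{u}} {σ τ : R ⟶ X} {π : X ⟶ Y}

theorem invSec_iff (V : X.Opens) (f : Γ(X, V)) :
    InvSec σ τ V f ↔ ∀ {W : Scheme.{u}} (r : W ⟶ R) (v₁ v₂ : W ⟶ V), r ≫ σ = v₁ ≫ V.ι → r ≫ τ = v₂ ≫ V.ι →
      v₁ ≫ secMor V f = v₂ ≫ secMor V f := by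
  constructor
  · intro hf W r v₁ v₂ h1 h2
    have t1 := le_comp V v₁
    have t2 := le_comp V v₂
    rw [← h1] at t1
    rw [← h2] at t2
    rw [comp_secMor V v₁ f h1.symm t1, comp_secMor V v₂ f h2.symm t2]
    have l : ⊤ ≤ r ⁻¹ᵁ (σ ⁻¹ᵁ V ⊓ τ ⁻¹ᵁ V) := fun x hx => ⟨t1 hx, t2 hx⟩
    have a1 := Scheme.Hom.appLE_comp_appLE r σ V (σ ⁻¹ᵁ V ⊓ τ ⁻¹ᵁ V) ⊤ inf_le_left l
    have a2 := Scheme.Hom.appLE_comp_appLE r τ V (σ ⁻¹ᵁ V ⊓ τ ⁻¹ᵁ V) ⊤ inf_le_right l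
    rw [← a1, ← a2]
    congr 1
    exact congr((r.appLE _ _ l).hom $hf)
  · intro H
    let W₀ : R.Opens := σ ⁻¹ᵁ V ⊓ τ ⁻¹ᵁ V
    have r1 : Set.range (W₀.ι ≫ σ) ⊆ Set.range V.ι := by
      rintro _ ⟨x, rfl⟩
      rw [Scheme.Opens.range_ι]
      exact x.2.1
    have r2 : Set.range (W₀.ι ≫ τ) ⊆ Set.range V.ι := by
      rintro _ ⟨x, rfl⟩
      rw [Scheme.Opens.range_ι]
      exact x.2.2
    have h := H W₀.ι (IsOpenImmersion.lift V.ι (W₀.ι ≫ σ) r1) (IsOpenImmersion.lift V.ι (W₀.ι ≫ τ) r2)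
      (IsOpenImmersion.lift_fac _ _ _).symm (IsOpenImmersion.lift_fac _ _ _).symm
    have t1 : ⊤ ≤ (W₀.ι ≫ σ) ⁻¹ᵁ V := fun x _ => x.2.1
    have t2 : ⊤ ≤ (W₀.ι ≫ τ) ⁻¹ᵁ V := fun x _ => x.2.2
    rw [comp_secMor V _ f (IsOpenImmersion.lift_fac _ _ _) t1,
      comp_secMor V _ f (IsOpenImmersion.lift_fac _ _ _) t2] at h
    have h' := toA_injective h
    have a1 := Scheme.Hom.appLE_comp_appLE W₀.ι σ V W₀ ⊤ inf_le_left (top_le_ι _)
    have a2 := Scheme.Hom.appLE_comp_appLE W₀.ι τ V W₀ ⊤ inf_le_right (top_le_ι _)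
    rw [← a1, ← a2] at h'
    have := isIso_ι_appLE W₀
    have hinj : Function.Injective (W₀.ι.appLE W₀ ⊤ (top_le_ι _)).hom :=
      (ConcreteCategory.bijective_of_isIso (W₀.ι.appLE W₀ ⊤ (top_le_ι _))).1
    exact hinj h'

theorem exists_descent (hG : Gpd σ τ) [Flat σ] [LocallyOfFinitePresentation σ] [UniversallyOpen σ]
    (hq : IsGeomQuot σ τ π) (V : X.Opens) (f : Γ(X, V)) (hf : InvSec σ τ V f) :
    ∃ (VY : Y.Opens) (hV : V ≤ π ⁻¹ᵁ VY) (s : Γ(Y, VY)), (π.appLE VY V hV).hom s = f := by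
  -- the saturation of `V`
  have hset : π ⁻¹' (π '' (V : Set X)) = σ '' (τ ⁻¹' (V : Set X)) := by
    ext x
    constructor
    · rintro ⟨v, hv, hvx⟩
      obtain ⟨r, hr1, hr2⟩ := hq.rel v x hvx
      exact ⟨r, by rw [Set.mem_preimage, hr1]; exact hv, hr2⟩
    · rintro ⟨r, hr, rfl⟩
      refine ⟨τ r, hr, ?_⟩
      rw [← Scheme.Hom.comp_apply, hq.w, Scheme.Hom.comp_apply]
  have hopen : IsOpen (π '' (V : Set X)) := by
    rw [← hq.isQuotientMap.isOpen_preimage, hset]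
    exact σ.isOpenMap _ (V.2.preimage τ.continuous)
  let VY : Y.Opens := ⟨π '' (V : Set X), hopen⟩
  let Vp : X.Opens := π ⁻¹ᵁ VY
  have hVp : V ≤ Vp := fun x hx => ⟨x, hx, rfl⟩
  let E : R.Opens := τ ⁻¹ᵁ V
  have hr : Set.range (E.ι ≫ σ) ⊆ Set.range Vp.ι := by
    rintro _ ⟨x, rfl⟩
    rw [Scheme.Opens.range_ι]
    have : (E.ι ≫ σ) x ∈ π ⁻¹' (π '' (V : Set X)) := by
      rw [hset]
      exact ⟨x.1, x.2, rfl⟩
    exact this
  let q : E.toScheme ⟶ Vp.toScheme := IsOpenImmersion.lift Vp.ι (E.ι ≫ σ) hr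
  have hqι : q ≫ Vp.ι = E.ι ≫ σ := IsOpenImmersion.lift_fac _ _ _
  have hqpb : IsPullback (𝟙 _) q (E.ι ≫ σ) Vp.ι := by
    refine ⟨⟨by rw [Category.id_comp, hqι]⟩, ⟨PullbackCone.IsLimit.mk _ (fun s => s.fst)
      (fun s => Category.comp_id _) (fun s => ?_) (fun s m h1 h2 => ?_)⟩⟩
    · rw [← cancel_mono Vp.ι, Category.assoc, hqι]
      exact s.condition
    · rw [← h1]; exact (Category.comp_id _).symm
  have hqflat : Flat q := MorphismProperty.of_isPullback hqpb inferInstance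
  have hqlfp : LocallyOfFinitePresentation q := MorphismProperty.of_isPullback hqpb inferInstance
  have hqsurj : Surjective q := by
    constructor
    rintro ⟨x, hx⟩
    have hx' : x ∈ π ⁻¹' (π '' (V : Set X)) := hx
    rw [hset] at hx'
    obtain ⟨r, hr, hrx⟩ := hx'
    have hr' : r ∈ E := hr
    refine ⟨(⟨r, hr'⟩ : E.toScheme), ?_⟩
    apply Vp.ι.isOpenEmbedding.injective
    have h1 : ∀ z : E.toScheme, Vp.ι (q z) = (E.ι ≫ σ) z := by
      intro z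
      rw [← hqι, Scheme.Hom.comp_apply]
    exact (h1 _).trans hrx
  have hqe : EffectiveEpi q := inferInstance
  obtain ⟨i, hi1, hi2⟩ := hG.symm
  -- descent of the function
  have hcond : ∀ {W : Scheme.{u}} (g₁ g₂ : W ⟶ E.toScheme), g₁ ≫ q = g₂ ≫ q →
      g₁ ≫ ((τ ∣_ V) ≫ secMor V f) = g₂ ≫ ((τ ∣_ V) ≫ secMor V f) := by
    intro W g₁ g₂ h
    have h1 : (g₁ ≫ E.ι) ≫ σ = (g₂ ≫ E.ι) ≫ σ := by
      rw [Category.assoc, Category.assoc, ← hqι, ← Category.assoc, h, Category.assoc]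
    obtain ⟨r, hr1, hr2⟩ := hG.trans ((g₁ ≫ E.ι) ≫ i) (g₂ ≫ E.ι) (by rw [Category.assoc, hi2, h1])
    have h2 := (invSec_iff V f).mp hf r (g₁ ≫ (τ ∣_ V)) (g₂ ≫ (τ ∣_ V))
      (by rw [hr1, Category.assoc, hi1, Category.assoc, Category.assoc, morphismRestrict_ι])
      (by rw [hr2, Category.assoc, Category.assoc, morphismRestrict_ι])
    simpa only [Category.assoc] using h2
  let fp : Vp.toScheme ⟶ Spec R₀.{u} := EffectiveEpi.desc q ((τ ∣_ V) ≫ secMor V f) hcond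
  have hfp : q ≫ fp = (τ ∣_ V) ≫ secMor V f := EffectiveEpi.fac q _ hcond
  obtain ⟨tp, htp⟩ := exists_secMor Vp fp
  have hlift : ∀ {W : Scheme.{u}} (r : W ⟶ R) (v : W ⟶ V.toScheme), r ≫ τ = v ≫ V.ι →
      ∃ e : W ⟶ E.toScheme, e ≫ E.ι = r ∧ e ≫ (τ ∣_ V) = v := by
    intro W r v h
    have hr : Set.range r ⊆ Set.range E.ι := by
      rintro _ ⟨x, rfl⟩
      rw [Scheme.Opens.range_ι]
      change τ (r x) ∈ V
      rw [← Scheme.Hom.comp_apply, h]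
      exact (v x).2
    refine ⟨IsOpenImmersion.lift E.ι r hr, IsOpenImmersion.lift_fac _ _ _, ?_⟩
    rw [← cancel_mono V.ι, Category.assoc, morphismRestrict_ι, ← Category.assoc,
      IsOpenImmersion.lift_fac, h]
  -- invariance
  have hinv : InvSec σ τ Vp tp := by
    rw [invSec_iff]
    intro W r w₁ w₂ h1 h2
    rw [htp]
    have hc : EffectiveEpi (pullback.snd q w₂) := inferInstance
    rw [← cancel_epi (pullback.snd q w₂), ← Category.assoc, ← Category.assoc, ← pullback.condition,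
      Category.assoc (pullback.fst q w₂), hfp]
    obtain ⟨r', hr1, hr2⟩ := hG.trans (pullback.snd q w₂ ≫ r) (pullback.fst q w₂ ≫ E.ι) (by
      rw [Category.assoc, h2, ← Category.assoc, ← pullback.condition, Category.assoc, hqι, Category.assoc])
    obtain ⟨e, he1, he2⟩ := hlift r' (pullback.fst q w₂ ≫ (τ ∣_ V)) (by
      rw [hr2, Category.assoc, Category.assoc, morphismRestrict_ι])
    have h3 : pullback.snd q w₂ ≫ w₁ = e ≫ q := by
      rw [← cancel_mono Vp.ι, Category.assoc, ← h1, ← Category.assoc, ← hr1, ← he1, Category.assoc,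
        Category.assoc, hqι]
    rw [h3, Category.assoc, hfp, ← Category.assoc, he2, Category.assoc]
  obtain ⟨s, hs⟩ := hq.sec VY tp hinv
  refine ⟨VY, hVp, s, ?_⟩
  apply secMor_injective
  obtain ⟨e₀, he1, he2⟩ := hG.refl
  obtain ⟨j, hj1, hj2⟩ := hlift (V.ι ≫ e₀) (𝟙 _) (by
    rw [Category.assoc, he2, Category.comp_id, Category.id_comp])
  have hj3 : j ≫ q = X.homOfLE hVp := by
    rw [← cancel_mono Vp.ι, Category.assoc, hqι, ← Category.assoc, hj1, Category.assoc, he1,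
      Category.comp_id, X.homOfLE_ι]
  have h4 : secMor V f = X.homOfLE hVp ≫ secMor Vp tp := by
    rw [htp, ← hj3, Category.assoc, hfp, ← Category.assoc, hj2, Category.id_comp]
  rw [h4, homOfLE_secMor, ← hs]
  rfl

end K843.InvDesc
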