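import Mathlib.LinearAlgebra.Eigenspace.Minpoly
import Mathlib.LinearAlgebra.Eigenspace.Pi
import Mathlib.LinearAlgebra.Eigenspace.Semisimple
import Mathlib.LinearAlgebra.Dimension.Finite
import Mathlib.FieldTheory.Separable
import Mathlib.LinearAlgebra.FiniteDimensional.Defs
import Mathlib.SetTheory.Cardinal.Finite
import Mathlib.Tactic.LinearCombination
import Mathlib.Algebra.Group.Subgroup.Finite

/-!
# Finite groups of commuting involutions of a vector space
-/

set_option autoImplicit false
open Polynomial Module

namespace K843.Involutions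

universe u v

variable {K : Type u} [Field K] {V : Type v} [AddCommGroup V] [Module K V]

/-- A finite family of distinct commuting involutions has at most `2 ^ dim V` members. -/
theorem card_le (h2 : (2 : K) ≠ 0) [FiniteDimensional K V] {ι : Type*} [Finite ι]
    (f : ι → Module.End K V) (hf : Function.Injective f) (hcomm : ∀ i j, Commute (f i) (f j))
    (hsq : ∀ i, f i ^ 2 = 1) : Nat.card ι ≤ 2 ^ finrank K V := by
  classical
  have hsep : (X ^ 2 - 1 : K[X]).Separable := by
    rw [← C_1]
    exact separable_X_pow_sub_C 1 (by exact_mod_cast h2) one_ne_zero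
  have hss : ∀ i, (f i).IsSemisimple := fun i =>
    Module.End.isSemisimple_of_squarefree_aeval_eq_zero hsep.squarefree (by simp [hsq i])
  have hmg : ∀ i μ, (f i).maxGenEigenspace μ = (f i).eigenspace μ := fun i μ =>
    (hss i).isFinitelySemisimple.maxGenEigenspace_eq_eigenspace μ
  have htop : ∀ i, ⨆ μ, (f i).maxGenEigenspace μ = ⊤ := by
    intro i
    rw [eq_top_iff]
    intro x _
    have hx : x = (2 : K)⁻¹ • (x + f i x) + (2 : K)⁻¹ • (x - f i x) := by
      rw [← smul_add]
      have : x + f i x + (x - f i x) = (2 : K) • x := by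
        rw [two_smul]; abel
      rw [this, smul_smul, inv_mul_cancel₀ h2, one_smul]
    have hff : f i (f i x) = x := by
      have := congrArg (fun g : Module.End K V => g x) (hsq i)
      simpa [pow_two] using this
    rw [hx]
    apply Submodule.add_mem
    · have h1 : (2 : K)⁻¹ • (x + f i x) ∈ (f i).maxGenEigenspace 1 := by
        rw [hmg, Module.End.mem_eigenspace_iff]
        rw [map_smul, map_add, hff, one_smul, add_comm]
      exact Submodule.mem_iSup_of_mem 1 h1
    · have h1 : (2 : K)⁻¹ • (x - f i x) ∈ (f i).maxGenEigenspace (-1) := by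
        rw [hmg, Module.End.mem_eigenspace_iff]
        rw [map_smul, map_sub, hff, neg_smul, one_smul, ← smul_neg, neg_sub]
      exact Submodule.mem_iSup_of_mem (-1) h1
  have hS := Module.End.iSup_iInf_maxGenEigenspace_eq_top_of_iSup_maxGenEigenspace_eq_top_of_commute
    f (fun i j _ => hcomm i j) htop
  have hind := Module.End.independent_iInf_maxGenEigenspace_of_forall_mapsTo f
    (fun i j φ => Module.End.mapsTo_maxGenEigenspace_of_comm (hcomm j i) φ)
  let W : (ι → K) → Submodule K V := fun χ => ⨅ i, (f i).maxGenEigenspace (χ i)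
  have hW : ∀ χ i x, x ∈ W χ → f i x = χ i • x := by
    intro χ i x hx
    have h1 : x ∈ (f i).maxGenEigenspace (χ i) := (Submodule.mem_iInf _).mp hx i
    rw [hmg, Module.End.mem_eigenspace_iff] at h1
    exact h1
  have hpm : ∀ χ, W χ ≠ ⊥ → ∀ i, χ i = 1 ∨ χ i = -1 := by
    intro χ hχ i
    obtain ⟨x, hx, hx0⟩ := (Submodule.ne_bot_iff _).mp hχ
    have h1 := hW χ i x hx
    have hff : f i (f i x) = x := by
      have := congrArg (fun g : Module.End K V => g x) (hsq i)
      simpa [pow_two] using this
    rw [h1, map_smul, h1, smul_smul] at hff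
    have h3 : (χ i * χ i - 1) • x = 0 := by rw [sub_smul, hff, one_smul, sub_self]
    rcases smul_eq_zero.mp h3 with h | h
    · have : (χ i - 1) * (χ i + 1) = 0 := by linear_combination h
      rcases mul_eq_zero.mp this with h | h
      · left; exact sub_eq_zero.mp h
      · right; exact eq_neg_of_add_eq_zero_left h
    · exact absurd h hx0
  have : Fintype {χ : ι → K // W χ ≠ ⊥} := hind.fintypeNeBotOfFiniteDimensional
  have hcard : Fintype.card {χ : ι → K // W χ ≠ ⊥} ≤ finrank K V := hind.subtype_ne_bot_le_finrank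
  let Φ : ι → ({χ : ι → K // W χ ≠ ⊥} → Bool) := fun i χ => decide (χ.1 i = 1)
  have hΦ : Function.Injective Φ := by
    intro i j hij
    apply hf
    have hχ : ∀ χ : {χ : ι → K // W χ ≠ ⊥}, χ.1 i = χ.1 j := by
      intro χ
      have h1 := congrFun hij χ
      simp only [Φ, decide_eq_decide] at h1
      rcases hpm χ.1 χ.2 i with hi | hi <;> rcases hpm χ.1 χ.2 j with hj | hj
      · rw [hi, hj]
      · rw [hi, h1.mp hi]
      · rw [hj, h1.mpr hj]
      · rw [hi, hj]
    have hker : ⊤ ≤ LinearMap.ker (f i - f j) := by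
      rw [← hS]
      apply iSup_le
      intro χ x hx
      by_cases hb : W χ = ⊥
      · have : x ∈ W χ := hx
        rw [hb, Submodule.mem_bot] at this
        rw [this]; exact Submodule.zero_mem _
      · have h5 : χ i = χ j := hχ ⟨χ, hb⟩
        rw [LinearMap.mem_ker, LinearMap.sub_apply, hW χ i x hx, hW χ j x hx, h5, sub_self]
    ext x
    have := hker (Submodule.mem_top (x := x))
    rw [LinearMap.mem_ker, LinearMap.sub_apply, sub_eq_zero] at this
    exact this
  calc Nat.card ι ≤ Nat.card ({χ : ι → K // W χ ≠ ⊥} → Bool) := Nat.card_le_card_of_injective Φ hΦ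
    _ = 2 ^ Fintype.card {χ : ι → K // W χ ≠ ⊥} := by
      rw [Nat.card_eq_fintype_card, Fintype.card_fun, Fintype.card_bool]
    _ ≤ 2 ^ finrank K V := Nat.pow_le_pow_right (by norm_num) hcard

end K843.Involutions
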