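import Mathlib.LinearAlgebra.QuadraticForm.Basic
import Mathlib.Algebra.CharP.Lemmas
import Mathlib.Algebra.CharP.Algebra
import Mathlib.LinearAlgebra.Eigenspace.Minpoly
import Mathlib.LinearAlgebra.Eigenspace.Pi
import Mathlib.LinearAlgebra.Eigenspace.Semisimple
import Mathlib.LinearAlgebra.Dimension.Finite
import Mathlib.FieldTheory.Separable
import Mathlib.LinearAlgebra.FiniteDimensional.Defs
import Mathlib.Tactic.LinearCombination

/-!
# Isometries of finite order of anisotropic quadratic forms
-/

set_option autoImplicit false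
open Polynomial

namespace K843.Quad

universe u v

variable {K : Type u} [Field K] {V : Type v} [AddCommGroup V] [Module K V]

/-- If `g` preserves an anisotropic form and `(g - 1)² x = 0` then `(g - 1) x = 0`. -/
theorem sub_one_sq_apply (h2 : (2 : K) ≠ 0) (q : QuadraticForm K V) (hq : q.Anisotropic)
    (g : Module.End K V) (hg : ∀ x : V, q (g x) = q x) (x : V)
    (hx : (g - 1) ((g - 1) x) = 0) : (g - 1) x = 0 := by
  set u := (g - 1) x with hu
  have hgx : g x = x + u := by rw [hu]; simp
  have hgu : g u = u := by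
    have : (g - 1) u = g u - u := by simp
    rw [this] at hx
    exact sub_eq_zero.mp hx
  have h1 : q (x + u) = q x := by rw [← hgx]; exact hg x
  have h3 : q (x + u + u) = q x := by
    have : g (x + u) = x + u + u := by rw [map_add, hgx, hgu]
    rw [← this, hg, h1]
  have e1 : q (x + u) = q x + q u + QuadraticMap.polar q x u := by
    simp [QuadraticMap.polar]
  have e2 : q (x + u + u) = q (x + u) + q u + QuadraticMap.polar q (x + u) u := by
    simp [QuadraticMap.polar]
  have e3 : QuadraticMap.polar q (x + u) u = QuadraticMap.polar q x u + QuadraticMap.polar q u u := by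
    rw [QuadraticMap.polar_add_left]
  have e4 : QuadraticMap.polar q u u = 2 * q u := by
    rw [QuadraticMap.polar_self]; simp
  have h4 : 2 * q u = 0 := by
    rw [h1] at e1
    rw [h3, h1, e3, e4] at e2
    linear_combination e1 - e2
  have h5 : q u = 0 := by
    rcases mul_eq_zero.mp h4 with h | h
    · exact absurd h h2
    · exact h
  exact hq u h5

theorem sub_one_pow_apply (h2 : (2 : K) ≠ 0) (q : QuadraticForm K V) (hq : q.Anisotropic)
    (g : Module.End K V) (hg : ∀ x : V, q (g x) = q x) (k : ℕ) (x : V)
    (hx : ((g - 1) ^ (k + 1)) x = 0) : (g - 1) x = 0 := by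
  induction k generalizing x with
  | zero => simpa using hx
  | succ k ih =>
    rw [pow_succ, Module.End.mul_apply] at hx
    exact sub_one_sq_apply h2 q hq g hg x (ih _ hx)

theorem eq_one_of_pow_char (p : ℕ) [Fact p.Prime] [CharP K p] (hp : p ≠ 2)
    (q : QuadraticForm K V) (hq : q.Anisotropic)
    (g : V ≃ₗ[K] V) (hg : ∀ x : V, q (g x) = q x) (hgp : g ^ p = 1) : g = 1 := by
  have h2 : (2 : K) ≠ 0 := by
    intro h
    have : ((2 : ℕ) : K) = 0 := by exact_mod_cast h
    rw [CharP.cast_eq_zero_iff K p] at this
    exact hp ((Nat.prime_dvd_prime_iff_eq (Fact.out) Nat.prime_two).mp this)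
  rcases subsingleton_or_nontrivial V with hV | hV
  · ext x; exact Subsingleton.elim _ _
  · let G : Module.End K V := g.toLinearMap
    have hG : G ^ p = 1 := by
      have h := congrArg (fun f : V ≃ₗ[K] V => (f : V →ₗ[K] V)) hgp
      ext x
      have h1 := congrArg (fun f : V ≃ₗ[K] V => f x) hgp
      have h3 : ∀ (n : ℕ) (x : V), (G ^ n) x = (g ^ n) x := by
        intro n
        induction n with
        | zero => intro x; simp
        | succ n ih => intro x; rw [pow_succ, pow_succ, Module.End.mul_apply, ih]; rfl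
      rw [h3]
      exact h1
    have : CharP (Module.End K V) p := charP_of_injective_algebraMap
      (FaithfulSMul.algebraMap_injective K (Module.End K V)) p
    have h3 : (G - 1) ^ p = 0 := by
      rw [sub_pow_char_of_commute p (Commute.one_right G), hG, one_pow, sub_self]
    obtain ⟨k, hk⟩ : ∃ k, p = k + 1 := ⟨p - 1, (Nat.succ_pred_eq_of_pos (Fact.out : p.Prime).pos).symm⟩
    ext x
    have h4 := sub_one_pow_apply h2 q hq G hg k x (by rw [← hk, h3]; rfl)
    have h5 : (G - 1) x = g x - x := by simp [G]
    rw [h5, sub_eq_zero] at h4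
    simpa using h4

/-- powers of `g` preserve `q`. -/
theorem pow_preserves (q : QuadraticForm K V) (g : V ≃ₗ[K] V) (hg : ∀ x : V, q (g x) = q x) (n : ℕ) :
    ∀ x : V, q ((g ^ n) x) = q x := by
  induction n with
  | zero => intro x; simp
  | succ n ih => intro x; rw [pow_succ, LinearEquiv.mul_apply, ih, hg]

theorem toLinearMap_pow (g : V ≃ₗ[K] V) (n : ℕ) :
    (g.toLinearMap : Module.End K V) ^ n = (g ^ n).toLinearMap := by
  induction n with
  | zero => ext x; simp
  | succ n ih => rw [pow_succ, pow_succ, ih]; rfl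

/-- A finite order isometry of order prime to the characteristic is semisimple, with eigenvalues
`±1`. -/
theorem sq_eq_one_of_coprime (hK : ∀ n : ℕ, 0 < n → (X ^ n - 1 : K[X]).Splits)
    [FiniteDimensional K V]
    (q : QuadraticForm K V) (hq : q.Anisotropic)
    (g : V ≃ₗ[K] V) (hg : ∀ x : V, q (g x) = q x) (d : ℕ) (hd : (d : K) ≠ 0) (hgd : g ^ d = 1) :
    g ^ 2 = 1 := by
  have hd0 : 0 < d := by
    rcases Nat.eq_zero_or_pos d with h | h
    · subst h; simp at hd
    · exact h
  let G : Module.End K V := g.toLinearMap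
  have hsep : (X ^ d - 1 : K[X]).Separable := by
    rw [← C_1]
    exact separable_X_pow_sub_C 1 hd one_ne_zero
  have hdvd : minpoly K G ∣ X ^ d - 1 := by
    apply minpoly.dvd
    have : G ^ d = 1 := by
      rw [toLinearMap_pow, hgd]; rfl
    simp [this]
  have hne : (X ^ d - 1 : K[X]) ≠ 0 := by
    intro h
    rw [h] at hsep
    exact not_separable_zero hsep
  have hsplit : (minpoly K G).Splits := (hK d hd0).of_dvd hne hdvd
  have hmon : (minpoly K G).Monic := minpoly.monic (Algebra.IsIntegral.isIntegral G)
  have hnodup : (minpoly K G).roots.Nodup := nodup_roots (hsep.of_dvd hdvd)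
  have hdvd2 : minpoly K G ∣ X ^ 2 - 1 := by
    have h2ne : (X ^ 2 - 1 : K[X]) ≠ 0 := by
      rw [← C_1]
      exact X_pow_sub_C_ne_zero (by norm_num) 1
    rw [hsplit.eq_prod_roots_of_monic hmon, Multiset.prod_X_sub_C_dvd_iff_le_roots h2ne]
    refine (Multiset.le_iff_subset hnodup).mpr ?_
    intro μ hμ
    rw [mem_roots hmon.ne_zero] at hμ
    have hev : G.HasEigenvalue μ := Module.End.hasEigenvalue_of_isRoot hμ
    obtain ⟨x, hx⟩ := hev.exists_hasEigenvector
    have hx1 : G x = μ • x := hx.apply_eq_smul
    have hx0 : x ≠ 0 := hx.2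
    have h1 : q x = μ * μ * q x := by
      have := hg x
      change q (G x) = q x at this
      rw [hx1, QuadraticMap.map_smul, smul_eq_mul] at this
      exact this.symm
    have hqx : q x ≠ 0 := fun h => hx0 (hq x h)
    have h3 : μ ^ 2 = 1 := by
      have h4 : (μ ^ 2 - 1) * q x = 0 := by linear_combination -h1
      rcases mul_eq_zero.mp h4 with h | h
      · exact sub_eq_zero.mp h
      · exact absurd h hqx
    rw [mem_roots h2ne]
    simp [h3]
  have h5 : aeval G (X ^ 2 - 1 : K[X]) = 0 := by
    obtain ⟨r, hr⟩ := hdvd2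
    rw [hr, map_mul, minpoly.aeval, zero_mul]
  have h6 : G ^ 2 = 1 := by
    simpa [sub_eq_zero] using h5
  ext x
  have h7 := congrArg (fun f : Module.End K V => f x) h6
  rw [toLinearMap_pow] at h7
  exact h7

theorem sq_eq_one (hK : ∀ n : ℕ, 0 < n → (X ^ n - 1 : K[X]).Splits) (h2 : (2 : K) ≠ 0)
    [FiniteDimensional K V]
    (q : QuadraticForm K V) (hq : q.Anisotropic)
    (g : V ≃ₗ[K] V) (hg : ∀ x : V, q (g x) = q x) (d : ℕ) (hd : 0 < d) (hgd : g ^ d = 1) :
    g ^ 2 = 1 := by
  induction d using Nat.strong_induction_on with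
  | _ d ih =>
    by_cases hd1 : (d : K) = 0
    · obtain ⟨p, hp⟩ := CharP.exists K
      rcases CharP.char_is_prime_or_zero K p with hpp | hp0
      · have : Fact p.Prime := ⟨hpp⟩
        rw [CharP.cast_eq_zero_iff K p] at hd1
        obtain ⟨e, rfl⟩ := hd1
        have he : 0 < e := Nat.pos_of_mul_pos_left hd
        have hp2 : p ≠ 2 := by
          rintro rfl
          exact h2 (by exact_mod_cast CharP.cast_eq_zero K 2)
        have hge : g ^ e = 1 := by
          apply eq_one_of_pow_char p hp2 q hq _ (pow_preserves q g hg e)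
          rw [← pow_mul, mul_comm, hgd]
        have hlt : e < p * e := by
          have := hpp.one_lt
          nlinarith
        exact ih e hlt he hge
      · subst hp0
        have := CharP.charP_to_charZero K
        exact absurd (Nat.cast_eq_zero.mp hd1) hd.ne'
    · exact sq_eq_one_of_coprime hK q hq g hg d hd1 hgd

end K843.Quad
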