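import Groth.Agent.Sga3A.MTBasis
import Groth.Agent.Sga3B.Hens.Dict
import Mathlib.RingTheory.HopfAlgebra.Convolution
import Mathlib.FieldTheory.Galois.Basic

/-!
# The Galois action on the characters of a torus and points

`g : GBasis L (L ⊗[K] A) M`: `A` is the Hopf algebra of a `K`-group which becomes diagonalizable, with
character group `M`, over `L`.
-/

set_option autoImplicit false
open TensorProduct WithConv
open Groth.Agent.Sga3A Groth.Agent.Sga3A.MTBasis
open Groth.Agent.Sga3B.Hens.Dict

namespace K843.TorusAlg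

universe u

variable {K A L M : Type u} [Field K] [CommRing A] [HopfAlgebra K A] [Field L] [Algebra K L] [CommGroup M]
  (g : GBasis L (L ⊗[K] A) M)

/-- The action of an endomorphism of `L` on the characters. -/
noncomputable def act (σ : L →ₐ[K] L) (m : M) : M :=
  (g.exists_eq (isGroupLikeElem_bc (A := A) σ (g.gl m))).choose

theorem bc_b (σ : L →ₐ[K] L) (m : M) : bc A σ (g.b m) = g.b (act g σ m) :=
  (g.exists_eq (isGroupLikeElem_bc (A := A) σ (g.gl m))).choose_spec

theorem act_mul (σ : L →ₐ[K] L) (m n : M) : act g σ (m * n) = act g σ m * act g σ n := by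
  apply g.b_injective
  rw [← bc_b, g.mul, g.mul, map_mul, bc_b, bc_b]

theorem act_comp (σ τ : L →ₐ[K] L) (m : M) : act g (σ.comp τ) m = act g σ (act g τ m) := by
  apply g.b_injective
  rw [← bc_b, ← bc_b, ← bc_b, bc_comp]; rfl

theorem act_id (m : M) : act g (AlgHom.id K L) m = m := by
  apply g.b_injective
  rw [← bc_b]
  have : bc A (AlgHom.id K L) = AlgHom.id K (L ⊗[K] A) := by ext <;> simp
  rw [this]; rfl

/-- The Galois action on the characters. -/
noncomputable def actHom : (L ≃ₐ[K] L) →* MulAut M where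
  toFun σ :=
    { toFun := act g (σ : L →ₐ[K] L)
      invFun := act g (σ.symm : L →ₐ[K] L)
      left_inv := fun m => by
        rw [← act_comp]
        have : (σ.symm : L →ₐ[K] L).comp (σ : L →ₐ[K] L) = AlgHom.id K L := by ext; simp
        rw [this, act_id]
      right_inv := fun m => by
        rw [← act_comp]
        have : (σ : L →ₐ[K] L).comp (σ.symm : L →ₐ[K] L) = AlgHom.id K L := by ext; simp
        rw [this, act_id]
      map_mul' := act_mul g _ }
  map_one' := by
    ext m
    exact act_id g m
  map_mul' σ τ := by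
    ext m
    exact act_comp g (σ : L →ₐ[K] L) (τ : L →ₐ[K] L) m

theorem actHom_apply (σ : L ≃ₐ[K] L) (m : M) : actHom g σ m = act g (σ : L →ₐ[K] L) m := rfl

theorem bc_b' (σ : L ≃ₐ[K] L) (m : M) : bc A (σ : L →ₐ[K] L) (g.b m) = g.b (actHom g σ m) := bc_b g _ m

/-- The extension of a point to `L ⊗ A`. -/
noncomputable def ext (x : WithConv (A →ₐ[K] K)) : L ⊗[K] A →ₐ[L] L :=
  ex L ((Algebra.ofId K L).comp x.ofConv)

theorem ext_tmul (x : WithConv (A →ₐ[K] K)) (l : L) (a : A) :
    ext x (l ⊗ₜ a) = l * algebraMap K L (x.ofConv a) := by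
  simp [ext, Algebra.ofId_apply]

theorem ext_one : ext (1 : WithConv (A →ₐ[K] K)) = Bialgebra.counitAlgHom L (L ⊗[K] A) := by
  apply AlgHom.ext
  intro z
  induction z with
  | zero => simp
  | add a b ha hb => rw [map_add, map_add, ha, hb]
  | tmul l a =>
    rw [ext_tmul]
    have : (1 : WithConv (A →ₐ[K] K)).ofConv a = Coalgebra.counit (R := K) a := rfl
    rw [this]
    simp [Algebra.smul_def, mul_comm]

theorem ofId_comp_mul (x y : WithConv (A →ₐ[K] K)) :
    toConv ((Algebra.ofId K L).comp (x * y).ofConv) =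
      (toConv ((Algebra.ofId K L).comp x.ofConv) * toConv ((Algebra.ofId K L).comp y.ofConv) :
        WithConv (A →ₐ[K] L)) := by
  apply WithConv.ofConv_injective
  apply AlgHom.ext
  intro a
  change algebraMap K L ((x * y) a) = (toConv ((Algebra.ofId K L).comp x.ofConv) *
    toConv ((Algebra.ofId K L).comp y.ofConv)) a
  rw [AlgHom.convMul_apply, AlgHom.convMul_apply]
  have r := Coalgebra.Repr.arbitrary K a
  rw [← r.eq]
  simp [Algebra.ofId_apply]

theorem ext_mul_groupLike (x y : WithConv (A →ₐ[K] K)) (z : L ⊗[K] A) (hz : IsGroupLikeElem L z) :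
    ext (x * y) z = ext x z * ext y z := by
  have h1 := ex_conv (R := L) (toConv ((Algebra.ofId K L).comp x.ofConv) : WithConv (A →ₐ[K] L))
    (toConv ((Algebra.ofId K L).comp y.ofConv))
  rw [← ofId_comp_mul] at h1
  have h2 : ext (x * y) z = (toConv (ext x) * toConv (ext y) : WithConv (L ⊗[K] A →ₐ[L] L)) z := by
    have := congrArg (fun f : L ⊗[K] A →ₐ[L] L => f z) h1
    exact this
  rw [h2, AlgHom.convMul_apply, hz.comul_eq_tmul_self]
  simp

/-- The character of `M` attached to a point. -/
noncomputable def theta (x : WithConv (A →ₐ[K] K)) : M →* L where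
  toFun m := ext x (g.b m)
  map_one' := by rw [g.one, map_one]
  map_mul' m n := by rw [g.mul, map_mul]

theorem theta_apply (x : WithConv (A →ₐ[K] K)) (m : M) : theta g x m = ext x (g.b m) := rfl

theorem theta_mul (x y : WithConv (A →ₐ[K] K)) (m : M) : theta g (x * y) m = theta g x m * theta g y m :=
  ext_mul_groupLike x y _ (g.gl m)

theorem theta_one (m : M) : theta g 1 m = 1 := by
  rw [theta_apply, ext_one]
  exact (g.gl m).counit_eq_one

theorem theta_pow (x : WithConv (A →ₐ[K] K)) (n : ℕ) (m : M) : theta g (x ^ n) m = theta g x m ^ n := by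
  induction n with
  | zero => rw [pow_zero, pow_zero, theta_one]
  | succ n ih => rw [pow_succ, pow_succ, theta_mul, ih]

theorem theta_injective (x y : WithConv (A →ₐ[K] K)) (h : ∀ m, theta g x m = theta g y m) : x = y := by
  have h1 : ext (L := L) x = ext y := by
    have h2 : (ext (L := L) x).toLinearMap = (ext y).toLinearMap := g.b.ext h
    exact AlgHom.toLinearMap_injective h2
  apply WithConv.ofConv_injective
  apply AlgHom.ext
  intro a
  have h3 := congrArg (fun f : L ⊗[K] A →ₐ[L] L => f (1 ⊗ₜ a)) h1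
  simp only [ext_tmul, one_mul] at h3
  exact (algebraMap K L).injective h3

theorem ext_bc (σ : L →ₐ[K] L) (x : WithConv (A →ₐ[K] K)) (z : L ⊗[K] A) :
    ext x (bc A σ z) = σ (ext x z) := by
  induction z with
  | zero => simp
  | add a b ha hb => rw [map_add, map_add, map_add, map_add, ha, hb]
  | tmul l a => rw [bc_tmul, ext_tmul, ext_tmul, map_mul, AlgHom.commutes]

theorem theta_act (σ : L ≃ₐ[K] L) (x : WithConv (A →ₐ[K] K)) (m : M) :
    theta g x (actHom g σ m) = σ (theta g x m) := by
  rw [theta_apply, theta_apply, ← bc_b', ext_bc]; rfl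

theorem theta_ne_zero (x : WithConv (A →ₐ[K] K)) (m : M) : theta g x m ≠ 0 := by
  intro h
  have h1 : theta g x m * theta g x m⁻¹ = 1 := by rw [← map_mul, mul_inv_cancel, map_one]
  rw [h, zero_mul] at h1
  exact zero_ne_one h1

end K843.TorusAlg
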