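import Groth.Agent.BddFin.K843.TorusMain
import Groth.Agent.BddFin.K843.RootFactors
import Mathlib.GroupTheory.Exponent
import Mathlib.RingTheory.RootsOfUnity.Basic
import Mathlib.RingTheory.RootsOfUnity.AlgebraicallyClosed
import Mathlib.FieldTheory.Separable

/-!
# Torsion points of anisotropic tori
-/

set_option autoImplicit false
universe u

open CategoryTheory MonoidalCategory CartesianMonoidalCategory MonObj GrpObj AlgebraicGeometry Limits
open TensorProduct Polynomial
open Groth.Agent.Books.AffBridge Groth.Agent.Books.AffBridge2 Groth.Agent.Sga3A Groth.Agent.Sga3A.MTBasis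
open Groth.Agent.Sga3B Groth.Agent.Sga3B.TorusEtLoc920 K843.TorusMain

namespace K843.TorusAniso

variable {K : Type u} [Field K]

theorem exists_primitiveRoot (hK : ∀ n : ℕ, 0 < n → (X ^ n - 1 : K[X]).Splits) (d : ℕ) (hd : 0 < d)
    (hdK : (d : K) ≠ 0) : ∃ ζ : K, IsPrimitiveRoot ζ d := by
  have : NeZero d := ⟨hd.ne'⟩
  have : NeZero ((d : ℕ) : AlgebraicClosure K) := ⟨fun h => hdK ((algebraMap K (AlgebraicClosure K)).injective (by
    rw [map_natCast, h, map_zero]))⟩
  obtain ⟨ζ, hζ⟩ := HasEnoughRootsOfUnity.exists_primitiveRoot (AlgebraicClosure K) d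
  obtain ⟨c, rfl⟩ := RootFactors.mem_range_of_pow_eq_one hK d hd ζ hζ.pow_eq_one
  exact ⟨c, IsPrimitiveRoot.of_map_of_injective hζ (algebraMap K _).injective⟩

section points

variable {A L : Type u} [CommRing A] [HopfAlgebra K A] [Field L] [Algebra K L] {n : ℕ}
  (g : GBasis L (L ⊗[K] A) (Mu.{u} n))

include g in
/-- The order of a point of a torus is invertible in the field. -/
theorem orderOf_ne_zero (y : WithConv (A →ₐ[K] K)) (hy : IsOfFinOrder y) : ((orderOf y : ℕ) : K) ≠ 0 := by
  intro h0
  have hpos : 0 < orderOf y := hy.orderOf_pos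
  obtain ⟨p, hp⟩ := CharP.exists K
  rcases CharP.char_is_prime_or_zero K p with hpp | hp0
  · have : Fact p.Prime := ⟨hpp⟩
    rw [CharP.cast_eq_zero_iff K p] at h0
    obtain ⟨e, he⟩ := h0
    have hepos : 0 < e := by
      rcases Nat.eq_zero_or_pos e with h | h
      · rw [h, mul_zero] at he; omega
      · exact h
    have hcharL : CharP L p := charP_of_injective_algebraMap (algebraMap K L).injective p
    have h1 : y ^ e = 1 := by
      apply TorusAlg.theta_injective g
      intro m
      rw [TorusAlg.theta_one]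
      apply frobenius_inj L p
      rw [frobenius_def, frobenius_def, one_pow, ← TorusAlg.theta_pow, ← pow_mul, mul_comm, ← he,
        pow_orderOf_eq_one, TorusAlg.theta_one]
    have h2 := Nat.le_of_dvd hepos (orderOf_dvd_of_pow_eq_one h1)
    rw [he] at h2
    have := hpp.one_lt
    nlinarith
  · subst hp0
    have := CharP.charP_to_charZero K
    exact absurd (Nat.cast_eq_zero.mp h0) hpos.ne'

/-- Characters of `Mu n` are determined by their values on the standard basis. -/
theorem char_ext (θ θ' : Mu.{u} n →* L)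
    (h : ∀ i, θ (ULift.up (Multiplicative.ofAdd (Pi.single i 1))) = θ' (ULift.up (Multiplicative.ofAdd (Pi.single i 1)))) :
    θ = θ' := by
  classical
  have key : θ.toHomUnits.comp (MulEquiv.ulift : Mu.{u} n ≃* _).symm.toMonoidHom =
      θ'.toHomUnits.comp (MulEquiv.ulift : Mu.{u} n ≃* _).symm.toMonoidHom := by
    apply MonoidHom.toAdditiveRight.injective
    apply AddMonoidHom.functions_ext
    intro i x
    have h3 : (MonoidHom.toAdditiveRight (θ.toHomUnits.comp (MulEquiv.ulift : Mu.{u} n ≃* _).symm.toMonoidHom)).comp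
        (AddMonoidHom.single (fun _ : Fin n => ℤ) i) =
        (MonoidHom.toAdditiveRight (θ'.toHomUnits.comp (MulEquiv.ulift : Mu.{u} n ≃* _).symm.toMonoidHom)).comp
        (AddMonoidHom.single (fun _ : Fin n => ℤ) i) := by
      apply AddMonoidHom.ext_int
      apply Additive.toMul.injective
      apply Units.ext
      exact h i
    exact congrArg (fun f : ℤ →+ Additive Lˣ => f x) h3
  ext m
  have h2 := congrArg (fun f : Multiplicative (Fin n → ℤ) →* Lˣ => ((f m.down : Lˣ) : L)) key
  exact h2

include g in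
/-- A finite group of points killed by `E` has at most `E ^ n` elements. -/
theorem card_le (G : Type*) [Group G] (ρ : G →* WithConv (A →ₐ[K] K)) (hρ : Function.Injective ρ)
    (E : ℕ) (hE : 0 < E) (h : ∀ x : G, x ^ E = 1) : Nat.card G ≤ E ^ n := by
  have : NeZero E := ⟨hE.ne'⟩
  let Φ : G → (Fin n → rootsOfUnity E L) := fun x i =>
    ⟨(TorusAlg.theta g (ρ x)).toHomUnits (ULift.up (Multiplicative.ofAdd (Pi.single i 1))), by
      rw [mem_rootsOfUnity]
      apply Units.ext
      rw [Units.val_pow_eq_pow_val, Units.val_one]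
      change (TorusAlg.theta g (ρ x) _) ^ E = 1
      rw [← TorusAlg.theta_pow, ← map_pow, h, map_one, TorusAlg.theta_one]⟩
  have hΦ : Function.Injective Φ := by
    intro x y hxy
    apply hρ
    apply TorusAlg.theta_injective g
    intro m
    have : TorusAlg.theta g (ρ x) = TorusAlg.theta g (ρ y) := by
      apply char_ext
      intro i
      have h1 := congrArg (fun z => (((z i : rootsOfUnity E L) : Lˣ) : L)) hxy
      exact h1
    rw [this]
  have h1 := Nat.card_le_card_of_injective Φ hΦ
  rw [Nat.card_fun, Nat.card_eq_fintype_card (α := Fin n), Fintype.card_fin] at h1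
  exact h1.trans (Nat.pow_le_pow_left (card_rootsOfUnity L E) n)

end points

theorem main (hK : ∀ n : ℕ, 0 < n → (X ^ n - 1 : K[X]).Splits) (n : ℕ)
    (T : Over (Spec (CommRingCat.of K))) [GrpObj T]
    (hT : ∃ (L : Type u) (_ : Field L) (_ : Algebra K L),
      Red.IsSplitTorusWith (Fin n → ℤ) (Red.bc (Spec.map (CommRingCat.ofHom (algebraMap K L))) T))
    (haniso : ∀ i : Red.Gm (Spec (CommRingCat.of K)) ⟶ T, IsMonHom i → Mono i → False) :
    (∀ x : 𝟙_ (Over (Spec (CommRingCat.of K))) ⟶ T, IsOfFinOrder x →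
        ((orderOf x : ℕ) : K) ≠ 0 ∧
        ∃ H : Subgroup (Matrix.GeneralLinearGroup (Fin n) ℤ), Finite H ∧ orderOf x ≤ Nat.card H) ∧
    (∀ G : Subgroup (𝟙_ (Over (Spec (CommRingCat.of K))) ⟶ T), Finite G →
        ∃ H : Subgroup (Matrix.GeneralLinearGroup (Fin n) ℤ), Finite H ∧ Nat.card G ≤ Nat.card H ^ n) := by
  obtain ⟨A, _, _, e, he, L, _, _, hfin, hgal, ⟨g⟩⟩ := exists_data T hT
  have h1 : ∀ x : 𝟙_ (Over (Spec (CommRingCat.of K))) ⟶ T, IsOfFinOrder x →
        ((orderOf x : ℕ) : K) ≠ 0 ∧
        ∃ H : Subgroup (Matrix.GeneralLinearGroup (Fin n) ℤ), Finite H ∧ orderOf x ≤ Nat.card H := by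
    intro x hx
    have hord : orderOf (ptsHom e x) = orderOf x := orderOf_injective (ptsHom e) (ptsHom_injective e) x
    have h2 : ((orderOf x : ℕ) : K) ≠ 0 := by
      rw [← hord]
      exact orderOf_ne_zero g _ (MonoidHom.isOfFinOrder _ hx)
    refine ⟨h2, ?_⟩
    by_contra hcon
    push Not at hcon
    obtain ⟨ζ, hζ⟩ := exists_primitiveRoot hK (orderOf x) hx.orderOf_pos h2
    obtain ⟨i, hi1, hi2⟩ := exists_mono_Gm n (orderOf x) hx.orderOf_pos hcon ζ hζ T hT x rfl
    exact haniso i hi1 hi2
  refine ⟨h1, fun G hG => ?_⟩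
  -- `G` is commutative
  let ρ : G →* WithConv (A →ₐ[K] K) := (ptsHom e).comp G.subtype
  have hρ : Function.Injective ρ := (ptsHom_injective e).comp Subtype.val_injective
  have hcomm : ∀ a b : G, a * b = b * a := by
    intro a b
    apply hρ
    apply TorusAlg.theta_injective g
    intro m
    rw [map_mul, map_mul, TorusAlg.theta_mul, TorusAlg.theta_mul, mul_comm]
  let _ : CommGroup G := { (inferInstance : Group G) with mul_comm := hcomm }
  have hexp : Monoid.ExponentExists G := Monoid.ExponentExists.of_finite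
  obtain ⟨x, hx⟩ := Monoid.exists_orderOf_eq_exponent hexp
  obtain ⟨_, H, hH, hle⟩ := h1 (x : 𝟙_ (Over (Spec (CommRingCat.of K))) ⟶ T)
    (by
      have := isOfFinOrder_of_finite x
      exact MonoidHom.isOfFinOrder G.subtype this)
  refine ⟨H, hH, ?_⟩
  have hE : 0 < Monoid.exponent G := Nat.pos_of_ne_zero hexp.exponent_ne_zero
  have h3 := card_le g G ρ hρ (Monoid.exponent G) hE (fun z => Monoid.pow_exponent_eq_one z)
  refine h3.trans (Nat.pow_le_pow_left ?_ n)
  rw [← hx, ← Subgroup.orderOf_coe]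
  exact hle

end K843.TorusAniso
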