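import Groth.Agent.BddFin.K843.TorusAlg
import Mathlib.RingTheory.Bialgebra.MonoidAlgebra
import Mathlib.RingTheory.HopfAlgebra.MonoidAlgebra
import Mathlib.FieldTheory.Galois.Basic

/-!
# Descending a Galois invariant cocharacter
-/

set_option autoImplicit false
open TensorProduct WithConv
open Groth.Agent.Sga3A Groth.Agent.Sga3A.MTBasis
open K843.TorusAlg

namespace K843.TorusDesc

universe u w

section inj

variable {K L : Type*} [Field K] [Field L] [Algebra K L] {G : Type*} [CommGroup G]

/-- coefficientwise extension of scalars -/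
noncomputable abbrev io (K L G : Type*) [Field K] [Field L] [Algebra K L] [CommGroup G] :
    MonoidAlgebra K G →ₐ[K] MonoidAlgebra L G := MonoidAlgebra.mapAlgHom G (Algebra.ofId K L)

theorem io_injective : Function.Injective (io K L G) := by
  intro x y h
  apply MonoidAlgebra.coeff_injective
  ext m
  have := congrArg (fun z => z.coeff m) h
  simp only [MonoidAlgebra.coeff_mapAlgHom, Algebra.ofId_apply] at this
  exact (algebraMap K L).injective this

/-- tensor square of `io` -/
noncomputable def io₂ (K L G : Type*) [Field K] [Field L] [Algebra K L] [CommGroup G] :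
    MonoidAlgebra K G ⊗[K] MonoidAlgebra K G →ₐ[K] MonoidAlgebra L G ⊗[L] MonoidAlgebra L G :=
  Algebra.TensorProduct.lift
    (((Algebra.TensorProduct.includeLeft : MonoidAlgebra L G →ₐ[L] _).restrictScalars K).comp (io K L G))
    (((Algebra.TensorProduct.includeRight : MonoidAlgebra L G →ₐ[L] _).restrictScalars K).comp (io K L G))
    (fun _ _ => Commute.all _ _)

theorem io₂_tmul (x y : MonoidAlgebra K G) : io₂ K L G (x ⊗ₜ y) = io K L G x ⊗ₜ io K L G y := by
  simp [io₂]

theorem io₂_injective : Function.Injective (io₂ K L G) := by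
  let bK := (MonoidAlgebra.basis G K).tensorProduct (MonoidAlgebra.basis G K)
  let bL := (MonoidAlgebra.basis G L).tensorProduct (MonoidAlgebra.basis G L)
  have h : ∀ z i, bL.repr (io₂ K L G z) i = algebraMap K L (bK.repr z i) := by
    rintro z ⟨i, j⟩
    induction z with
    | zero => simp
    | add a b ha hb => rw [map_add, map_add, map_add, Finsupp.add_apply, Finsupp.add_apply, ha, hb, map_add]
    | tmul x y =>
      rw [io₂_tmul, Module.Basis.tensorProduct_repr_tmul_apply, Module.Basis.tensorProduct_repr_tmul_apply,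
        smul_eq_mul, smul_eq_mul, map_mul]
      have h1 : ∀ (x : MonoidAlgebra K G) (i : G), (MonoidAlgebra.basis G L).repr (io K L G x) i =
          algebraMap K L ((MonoidAlgebra.basis G K).repr x i) := by
        intro x i
        change (io K L G x).coeff i = algebraMap K L (x.coeff i)
        rw [MonoidAlgebra.coeff_mapAlgHom, Algebra.ofId_apply]
      rw [h1, h1]
  intro x y hxy
  apply bK.repr.injective
  ext i
  apply (algebraMap K L).injective
  rw [← h, ← h, hxy]

theorem counit_io (x : MonoidAlgebra K G) :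
    Coalgebra.counit (R := L) (io K L G x) = algebraMap K L (Coalgebra.counit (R := K) x) := by
  have h : (((Bialgebra.counitAlgHom L (MonoidAlgebra L G)).restrictScalars K).comp (io K L G)) =
      (Algebra.ofId K L).comp (Bialgebra.counitAlgHom K (MonoidAlgebra K G)) := by
    ext <;> simp
  exact congrArg (fun f => f x) h

theorem comul_io (x : MonoidAlgebra K G) :
    Coalgebra.comul (R := L) (io K L G x) = io₂ K L G (Coalgebra.comul (R := K) x) := by
  have h : (((Bialgebra.comulAlgHom L (MonoidAlgebra L G)).restrictScalars K).comp (io K L G)) =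
      (io₂ K L G).comp (Bialgebra.comulAlgHom K (MonoidAlgebra K G)) := by
    ext <;> simp [io₂_tmul]
  exact congrArg (fun f => f x) h

end inj

variable {K A L M : Type u} [Field K] [CommRing A] [HopfAlgebra K A] [Field L] [Algebra K L] [CommGroup M]
  (g : GBasis L (L ⊗[K] A) M) {G : Type w} [CommGroup G] (ψ : M →* G)

/-- The map `L ⊗ A → L[G]` attached to `ψ : M → G`. -/
noncomputable def F : L ⊗[K] A →ₐc[L] MonoidAlgebra L G :=
  (MonoidAlgebra.mapDomainBialgHom L ψ).comp (g.bialgEquiv.symm : L ⊗[K] A →ₐc[L] MonoidAlgebra L M)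

theorem F_b (m : M) : F g ψ (g.b m) = MonoidAlgebra.single (ψ m) 1 := by
  have h : g.bialgEquiv.symm (g.b m) = MonoidAlgebra.single m 1 := by
    rw [← one_smul L (g.b m), ← g.bialgEquiv_single]
    exact g.bialgEquiv.symm_apply_apply _
  change MonoidAlgebra.mapDomainBialgHom L ψ (g.bialgEquiv.symm (g.b m)) = _
  rw [h, MonoidAlgebra.mapDomainBialgHom_single]

theorem F_bc (σ : L ≃ₐ[K] L) (hψ : ∀ m, ψ (actHom g σ m) = ψ m) (z : L ⊗[K] A) :
    F g ψ (bc A (σ : L →ₐ[K] L) z) = MonoidAlgebra.mapAlgHom G (σ : L →ₐ[K] L) (F g ψ z) := by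
  have hz : z ∈ Submodule.span L (Set.range g.b) := by rw [g.b.span_eq]; trivial
  induction hz using Submodule.span_induction with
  | zero => simp
  | add a b _ _ ha hb => rw [map_add, map_add, ha, hb, map_add, map_add]
  | mem z hz =>
    obtain ⟨m, rfl⟩ := hz
    rw [bc_b', F_b, F_b, hψ, MonoidAlgebra.mapAlgHom_single, map_one]
  | smul l z _ h =>
    rw [bc_smul, map_smul, map_smul, h]
    rw [Algebra.smul_def, Algebra.smul_def, map_mul]
    congr 1
    change MonoidAlgebra.single 1 ((σ : L →ₐ[K] L) l) = MonoidAlgebra.mapAlgHom G (σ : L →ₐ[K] L) (MonoidAlgebra.single 1 l)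
    rw [MonoidAlgebra.mapAlgHom_single]

/-- `F` maps `A` into `K[G]`. -/
theorem F_mem_range [FiniteDimensional K L] [IsGalois K L]
    (hψ : ∀ (σ : L ≃ₐ[K] L) m, ψ (actHom g σ m) = ψ m) (a : A) :
    ∃ y : MonoidAlgebra K G, io K L G y = F g ψ (1 ⊗ₜ a) := by
  have h1 : ∀ (σ : L ≃ₐ[K] L) (m : G), σ ((F g ψ (1 ⊗ₜ a)).coeff m) = (F g ψ (1 ⊗ₜ a)).coeff m := by
    intro σ m
    have h2 := F_bc g ψ σ (hψ σ) (1 ⊗ₜ a)
    rw [bc_tmul, map_one] at h2
    conv_rhs => rw [h2]
    rw [MonoidAlgebra.coeff_mapAlgHom]
    rfl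
  have h3 : ∀ m : G, ∃ k : K, algebraMap K L k = (F g ψ (1 ⊗ₜ a)).coeff m := by
    intro m
    have := (IsGalois.mem_bot_iff_fixed (F := K) (E := L) ((F g ψ (1 ⊗ₜ a)).coeff m)).mpr (fun σ => h1 σ m)
    exact IntermediateField.mem_bot.mp this
  choose c hc using h3
  refine ⟨MonoidAlgebra.ofCoeff (Finsupp.ofSupportFinite c ?_), ?_⟩
  · apply ((F g ψ (1 ⊗ₜ a)).coeff.support.finite_toSet).subset
    intro m hm
    rw [Function.mem_support] at hm
    simp only [Finset.mem_coe, Finsupp.mem_support_iff]
    rw [← hc m]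
    exact fun h => hm ((algebraMap K L).injective (by rw [h, map_zero]))
  · apply MonoidAlgebra.coeff_injective
    ext m
    rw [MonoidAlgebra.coeff_mapAlgHom, Algebra.ofId_apply, ← hc m]
    rfl

variable [FiniteDimensional K L] [IsGalois K L] (hψ : ∀ (σ : L ≃ₐ[K] L) m, ψ (actHom g σ m) = ψ m)

/-- The descended map. -/
noncomputable def f : A →ₐ[K] MonoidAlgebra K G :=
  ((AlgEquiv.ofInjective (io K L G) io_injective).symm : (io K L G).range →ₐ[K] MonoidAlgebra K G).comp
    ((((F g ψ : L ⊗[K] A →ₐ[L] MonoidAlgebra L G).restrictScalars K).comp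
      (Algebra.TensorProduct.includeRight : A →ₐ[K] L ⊗[K] A)).codRestrict (io K L G).range
      (fun a => by
        obtain ⟨y, hy⟩ := F_mem_range g ψ hψ a
        exact ⟨y, hy⟩))

theorem io_f (a : A) : io K L G (f g ψ hψ a) = F g ψ (1 ⊗ₜ a) := by
  have h1 : ∀ z : (io K L G).range, io K L G ((AlgEquiv.ofInjective (io K L G) io_injective).symm z) = z := by
    intro z
    have := congrArg Subtype.val ((AlgEquiv.ofInjective (io K L G) io_injective).apply_symm_apply z)
    rw [AlgEquiv.ofInjective_apply] at this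
    exact this
  exact h1 _

/-- The descended map is a map of bialgebras. -/
noncomputable def fb : A →ₐc[K] MonoidAlgebra K G :=
  BialgHom.ofAlgHom (f g ψ hψ)
    (by
      ext a
      apply (algebraMap K L).injective
      change algebraMap K L (Coalgebra.counit (R := K) (f g ψ hψ a)) = algebraMap K L (Coalgebra.counit (R := K) a)
      rw [← counit_io (L := L), io_f, CoalgHomClass.counit_comp_apply]
      simp [Algebra.smul_def])
    (by
      ext a
      apply io₂_injective (L := L)
      change io₂ K L G (Algebra.TensorProduct.map (f g ψ hψ) (f g ψ hψ) (Coalgebra.comul (R := K) a)) =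
        io₂ K L G (Coalgebra.comul (R := K) (f g ψ hψ a))
      rw [← comul_io, io_f, ← CoalgHomClass.map_comp_comul_apply]
      have r := Coalgebra.Repr.arbitrary K a
      have h1 : Coalgebra.comul (R := L) ((1 : L) ⊗ₜ[K] a) =
          ∑ i ∈ r.index, ((1 : L) ⊗ₜ[K] r.left i) ⊗ₜ[L] ((1 : L) ⊗ₜ[K] r.right i) := by
        simp [← r.eq, TensorProduct.tmul_sum]
      rw [h1, ← r.eq, map_sum, map_sum, map_sum]
      apply Finset.sum_congr rfl
      intro i _
      rw [Algebra.TensorProduct.map_tmul, io₂_tmul, io_f, io_f, TensorProduct.map_tmul]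
      rfl)

theorem fb_apply (a : A) : fb g ψ hψ a = f g ψ hψ a := rfl

/-- If `ψ` is surjective so is the descended map. -/
theorem fb_surjective (hs : Function.Surjective ψ) : Function.Surjective (fb g ψ hψ) := by
  -- a `K`-linear retraction of `K → L`
  obtain ⟨lam, hlam⟩ := LinearMap.exists_leftInverse_of_injective (Algebra.linearMap K L)
    (LinearMap.ker_eq_bot.mpr (algebraMap K L).injective)
  let Lam : MonoidAlgebra L G →ₗ[K] MonoidAlgebra K G :=
    ((MonoidAlgebra.coeffLinearEquiv K).symm.toLinearMap).comp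
      ((Finsupp.mapRange.linearMap lam).comp (MonoidAlgebra.coeffLinearEquiv K).toLinearMap)
  have hLam : ∀ (l : L) (y : MonoidAlgebra K G), Lam (l • io K L G y) = lam l • y := by
    intro l y
    apply MonoidAlgebra.coeff_injective
    ext m
    change lam ((l • io K L G y).coeff m) = (lam l • y).coeff m
    have h1 : (l • io K L G y).coeff m = l * algebraMap K L (y.coeff m) := by
      rw [MonoidAlgebra.coeff_smul, Finsupp.smul_apply, MonoidAlgebra.coeff_mapAlgHom, Algebra.ofId_apply,
        smul_eq_mul]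
    rw [h1, mul_comm, ← Algebra.smul_def, map_smul, MonoidAlgebra.coeff_smul, Finsupp.smul_apply,
      smul_eq_mul, smul_eq_mul, mul_comm]
  have hrange : ∀ z : L ⊗[K] A, Lam (F g ψ z) ∈ LinearMap.range ((fb g ψ hψ : A →ₐ[K] MonoidAlgebra K G).toLinearMap) := by
    intro z
    induction z with
    | zero => simp
    | add a b ha hb => rw [map_add, map_add]; exact Submodule.add_mem _ ha hb
    | tmul l a =>
      have h1 : F g ψ (l ⊗ₜ a) = l • io K L G (f g ψ hψ a) := by
        rw [io_f, ← map_smul]; congr 1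
        rw [TensorProduct.smul_tmul', smul_eq_mul, mul_one]
      rw [h1, hLam]
      exact Submodule.smul_mem _ _ ⟨a, rfl⟩
  have hlam1 : lam 1 = 1 := by
    have := congrArg (fun h : K →ₗ[K] K => h 1) hlam
    simpa using this
  have hsingle : ∀ m : G, MonoidAlgebra.single m (1 : K) ∈
      LinearMap.range ((fb g ψ hψ : A →ₐ[K] MonoidAlgebra K G).toLinearMap) := by
    intro m
    obtain ⟨m', rfl⟩ := hs m
    have h1 := hrange (g.b m')
    rw [F_b] at h1
    have h2 : (MonoidAlgebra.single (ψ m') (1 : L)) = (1 : L) • io K L G (MonoidAlgebra.single (ψ m') 1) := by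
      rw [MonoidAlgebra.mapAlgHom_single, map_one, one_smul]
    rw [h2, hLam, hlam1, one_smul] at h1
    exact h1
  intro y
  have hy : y ∈ LinearMap.range ((fb g ψ hψ : A →ₐ[K] MonoidAlgebra K G).toLinearMap) := by
    induction y using MonoidAlgebra.induction_linear with
    | zero => exact Submodule.zero_mem _
    | add a b ha hb => exact Submodule.add_mem _ ha hb
    | single m k =>
      have : MonoidAlgebra.single m k = k • MonoidAlgebra.single m (1 : K) := by
        rw [MonoidAlgebra.smul_single, smul_eq_mul, mul_one]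
      rw [this]
      exact Submodule.smul_mem _ _ (hsingle m)
  obtain ⟨a, ha⟩ := hy
  exact ⟨a, ha⟩

end K843.TorusDesc
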