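import Groth.Agent.BddFin.K843.TorusAniso
import Groth.Agent.BddFin.K843.GL2Z
import Groth.Agent.S15163

/-!
# Anisotropic tori of dimension two
-/

set_option autoImplicit false
universe u

open CategoryTheory MonoidalCategory CartesianMonoidalCategory AlgebraicGeometry Limits
open TensorProduct Polynomial Matrix
open Groth.Agent.Books.AffBridge Groth.Agent.Books.AffBridge2 Groth.Agent.Sga3A Groth.Agent.Sga3A.MTBasis
open Groth.Agent.Sga3B Groth.Agent.Sga3B.TorusEtLoc920 K843.TorusMain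

namespace K843.TorusRank2

/-- inverse transpose -/
def tinv (n : ℕ) : Matrix.GeneralLinearGroup (Fin n) ℤ →* Matrix.GeneralLinearGroup (Fin n) ℤ where
  toFun g := ⟨((g⁻¹ : Matrix.GeneralLinearGroup (Fin n) ℤ) : Matrix (Fin n) (Fin n) ℤ)ᵀ,
    (g : Matrix (Fin n) (Fin n) ℤ)ᵀ,
    by rw [← Matrix.transpose_mul, ← Units.val_mul, mul_inv_cancel, Units.val_one, Matrix.transpose_one],
    by rw [← Matrix.transpose_mul, ← Units.val_mul, inv_mul_cancel, Units.val_one, Matrix.transpose_one]⟩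
  map_one' := by
    apply Units.ext
    change ((1⁻¹ : Matrix.GeneralLinearGroup (Fin n) ℤ) : Matrix (Fin n) (Fin n) ℤ)ᵀ = 1
    rw [inv_one, Units.val_one, Matrix.transpose_one]
  map_mul' a b := by
    apply Units.ext
    change (((a * b)⁻¹ : Matrix.GeneralLinearGroup (Fin n) ℤ) : Matrix (Fin n) (Fin n) ℤ)ᵀ =
      ((a⁻¹ : Matrix.GeneralLinearGroup (Fin n) ℤ) : Matrix (Fin n) (Fin n) ℤ)ᵀ *
      ((b⁻¹ : Matrix.GeneralLinearGroup (Fin n) ℤ) : Matrix (Fin n) (Fin n) ℤ)ᵀ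
    rw [_root_.mul_inv_rev, Units.val_mul, Matrix.transpose_mul]

theorem tinv_val (n : ℕ) (g : Matrix.GeneralLinearGroup (Fin n) ℤ) :
    ((tinv n g : Matrix.GeneralLinearGroup (Fin n) ℤ) : Matrix (Fin n) (Fin n) ℤ) =
      ((g⁻¹ : Matrix.GeneralLinearGroup (Fin n) ℤ) : Matrix (Fin n) (Fin n) ℤ)ᵀ := rfl

theorem toGL_mulVec {M : Type*} [CommGroup M] {n : ℕ} (e : M ≃* Multiplicative (Fin n → ℤ))
    (h : MulAut M) (m : M) :
    ((Lattice.toGL e h : Matrix.GeneralLinearGroup (Fin n) ℤ) : Matrix (Fin n) (Fin n) ℤ) *ᵥ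
      (Multiplicative.toAdd (e m)) = Multiplicative.toAdd (e (h m)) := by
  have h1 : ∀ (l : LinearMap.GeneralLinearGroup ℤ (Fin n → ℤ)) (v : Fin n → ℤ),
      (((Matrix.GeneralLinearGroup.toLin (n := Fin n) (R := ℤ)).symm l :
        Matrix.GeneralLinearGroup (Fin n) ℤ) : Matrix (Fin n) (Fin n) ℤ) *ᵥ v = (l : (Fin n → ℤ) →ₗ[ℤ] (Fin n → ℤ)) v := by
    intro l v
    obtain ⟨g, rfl⟩ := (Matrix.GeneralLinearGroup.toLin (n := Fin n) (R := ℤ)).surjective l
    rw [MulEquiv.symm_apply_apply]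
    rfl
  have h2 := h1 ((LinearMap.GeneralLinearGroup.generalLinearEquiv ℤ (Fin n → ℤ)).symm
    ((MulEquiv.toAdditive ((e.symm.trans h).trans e) : (Fin n → ℤ) ≃+ (Fin n → ℤ)).toIntLinearEquiv))
    (Multiplicative.toAdd (e m))
  refine Eq.trans h2 ?_
  change Multiplicative.toAdd (e (h (e.symm (Multiplicative.ofAdd (Multiplicative.toAdd (e m)))))) = _
  simp

/-- The homomorphism given by pairing with a vector. -/
def pairHom {M : Type*} [CommGroup M] {n : ℕ} (e : M ≃* Multiplicative (Fin n → ℤ)) (v : Fin n → ℤ) :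
    M →* Multiplicative ℤ where
  toFun m := Multiplicative.ofAdd (v ⬝ᵥ (Multiplicative.toAdd (e m)))
  map_one' := by rw [map_one, toAdd_one, dotProduct_zero]; rfl
  map_mul' a b := by rw [map_mul, toAdd_mul, dotProduct_add]; rfl

theorem hom_eq_pairHom {M : Type*} [CommGroup M] {n : ℕ} (e : M ≃* Multiplicative (Fin n → ℤ))
    (φ : M →* Multiplicative ℤ) :
    φ = pairHom e (fun i => Multiplicative.toAdd (φ (e.symm (Multiplicative.ofAdd (Pi.single i 1))))) := by
  classical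
  set φ' := pairHom e (fun i => Multiplicative.toAdd (φ (e.symm (Multiplicative.ofAdd (Pi.single i 1))))) with hφ'
  have key : φ.comp e.symm.toMonoidHom = φ'.comp e.symm.toMonoidHom := by
    apply MonoidHom.toAdditiveRight.injective
    apply AddMonoidHom.functions_ext
    intro i x
    have h3 : (MonoidHom.toAdditiveRight (φ.comp e.symm.toMonoidHom)).comp
        (AddMonoidHom.single (fun _ : Fin n => ℤ) i) =
        (MonoidHom.toAdditiveRight (φ'.comp e.symm.toMonoidHom)).comp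
        (AddMonoidHom.single (fun _ : Fin n => ℤ) i) := by
      apply AddMonoidHom.ext_int
      apply Additive.toMul.injective
      apply Multiplicative.toAdd.injective
      change Multiplicative.toAdd (φ (e.symm (Multiplicative.ofAdd (Pi.single i 1)))) =
        (fun i => Multiplicative.toAdd (φ (e.symm (Multiplicative.ofAdd (Pi.single i 1))))) ⬝ᵥ
          (Multiplicative.toAdd (e (e.symm (Multiplicative.ofAdd (Pi.single i 1)))))
      rw [MulEquiv.apply_symm_apply, toAdd_ofAdd, dotProduct_single, mul_one]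
    exact congrArg (fun f : ℤ →+ Additive (Multiplicative ℤ) => f x) h3
  ext m
  have h2 := congrArg (fun f : Multiplicative (Fin n → ℤ) →* Multiplicative ℤ => f (e m)) key
  simpa using h2

/-- The averaging argument is replaced by the analysis of finite subgroups of `GL₂(ℤ)`. -/
theorem exists_psi {M : Type*} [CommGroup M] (e : M ≃* Multiplicative (Fin 2 → ℤ))
    {L : Type*} [Field L] (d : ℕ) (hd : 6 < d) (ζ : L) (hζ : IsPrimitiveRoot ζ d) (θ : M →* L)
    (hθ : ∀ m, θ m ^ d = 1) (H : Subgroup (MulAut M)) [Finite H]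
    (hH : ∀ h ∈ H, ∀ m, θ (h m) = θ m) (hne : ∀ k : ℕ, 0 < k → k < d → ∃ m, θ m ^ k ≠ 1) :
    ∃ ψ : M →* Multiplicative ℤ, Function.Surjective ψ ∧ ∀ h ∈ H, ∀ m, ψ (h m) = ψ m := by
  classical
  have hd0 : 0 < d := by omega
  have : NeZero d := ⟨hd0.ne'⟩
  have hζ0 : ζ ≠ 0 := hζ.ne_zero hd0.ne'
  obtain ⟨φ, hφ⟩ := Lattice.exists_phi e d hd0 ζ hζ θ hθ
  let b : Fin 2 → M := fun i => e.symm (Multiplicative.ofAdd (Pi.single i 1))
  have hb : ∀ i, Multiplicative.toAdd (e (b i)) = Pi.single i 1 := by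
    intro i
    change Multiplicative.toAdd (e (e.symm (Multiplicative.ofAdd (Pi.single i 1)))) = _
    rw [MulEquiv.apply_symm_apply, toAdd_ofAdd]
  let v₀ : Fin 2 → ℤ := fun i => Multiplicative.toAdd (φ (b i))
  -- `φ` is the pairing with `v₀`
  have hpair : ∀ m, Multiplicative.toAdd (φ m) = v₀ ⬝ᵥ (Multiplicative.toAdd (e m)) := by
    intro m
    exact congrArg (fun f : M →* Multiplicative ℤ => Multiplicative.toAdd (f m)) (hom_eq_pairHom e φ)
  let N : MulAut M → Matrix (Fin 2) (Fin 2) ℤ := fun h =>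
    ((Lattice.toGL e h : Matrix.GeneralLinearGroup (Fin 2) ℤ) : Matrix (Fin 2) (Fin 2) ℤ)
  have hN : ∀ (v : Fin 2 → ℤ) (h : MulAut M) (m : M),
      v ⬝ᵥ (Multiplicative.toAdd (e (h m))) = ((N h)ᵀ *ᵥ v) ⬝ᵥ (Multiplicative.toAdd (e m)) := by
    intro v h m
    rw [← toGL_mulVec e h m, Matrix.dotProduct_mulVec, Matrix.mulVec_transpose]
  let w : Fin 2 → ZMod d := fun i => ((v₀ i : ℤ) : ZMod d)
  have hw : ∀ m : ℕ, 0 < m → m < d → m • w ≠ 0 := by
    intro k hk1 hk2 hk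
    obtain ⟨m, hm⟩ := hne k hk1 hk2
    apply hm
    rw [hφ, ← zpow_natCast, ← zpow_mul, hpair, hζ.zpow_eq_one_iff_dvd]
    have h1 : ∀ i, (d : ℤ) ∣ v₀ i * (k : ℤ) := by
      intro i
      rw [← ZMod.intCast_zmod_eq_zero_iff_dvd]
      have := congrFun hk i
      rw [Pi.smul_apply, Pi.zero_apply, nsmul_eq_mul] at this
      rw [Int.cast_mul, mul_comm]
      simpa using this
    rw [dotProduct, Finset.sum_mul]
    apply Finset.dvd_sum
    intro i _
    obtain ⟨c, hc⟩ := h1 i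
    exact ⟨c * Multiplicative.toAdd (e m) i, by linear_combination (Multiplicative.toAdd (e m) i) * hc⟩
  have hfix₀ : ∀ h ∈ H, (((N h)ᵀ).map (Int.castRingHom (ZMod d))) *ᵥ w = w := by
    intro h hh
    ext i
    have h1 : (((N h)ᵀ).map (Int.castRingHom (ZMod d))) *ᵥ w = fun j => ((((N h)ᵀ *ᵥ v₀) j : ℤ) : ZMod d) := by
      have h2 : w = (Int.castRingHom (ZMod d)) ∘ v₀ := rfl
      rw [h2]
      ext j
      have := RingHom.map_mulVec (Int.castRingHom (ZMod d)) ((N h)ᵀ) v₀ j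
      rw [← this]
      rfl
    rw [h1]
    have h3 : ((N h)ᵀ *ᵥ v₀) i = Multiplicative.toAdd (φ (h (b i))) := by
      rw [hpair, hN, hb, dotProduct_single, mul_one]
    have h4 : (((Multiplicative.toAdd (φ (h (b i)))) : ℤ) : ZMod d) = ((Multiplicative.toAdd (φ (b i)) : ℤ) : ZMod d) := by
      rw [ZMod.intCast_eq_intCast_iff_dvd_sub, ← hζ.zpow_eq_one_iff_dvd, zpow_sub₀ hζ0, ← hφ, ← hφ, hH h hh,
        div_self]
      intro h0
      have := hθ (b i)
      rw [h0, zero_pow hd0.ne'] at this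
      exact zero_ne_one this
    change ((((N h)ᵀ *ᵥ v₀) i : ℤ) : ZMod d) = ((Multiplicative.toAdd (φ (b i)) : ℤ) : ZMod d)
    rw [h3, h4]
  let Γ : Subgroup (Matrix.GeneralLinearGroup (Fin 2) ℤ) := (H.map (Lattice.toGL e)).map (tinv 2)
  have hΓfin : Finite Γ := by
    have h1 : Finite (H.map (Lattice.toGL e)) :=
      Finite.of_surjective _ ((Lattice.toGL e).subgroupMap_surjective H)
    exact Finite.of_surjective _ ((tinv 2).subgroupMap_surjective (H.map (Lattice.toGL e)))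
  have hΓ : ∀ γ ∈ Γ, ∃ h ∈ H, (γ : Matrix (Fin 2) (Fin 2) ℤ) = (N h)ᵀ := by
    rintro _ ⟨_, ⟨h, hh, rfl⟩, rfl⟩
    refine ⟨h⁻¹, H.inv_mem hh, ?_⟩
    change ((Lattice.toGL e h)⁻¹ : Matrix.GeneralLinearGroup (Fin 2) ℤ).valᵀ = (Lattice.toGL e h⁻¹).valᵀ
    rw [map_inv]
  have hΓ' : ∀ h ∈ H, ∃ γ ∈ Γ, (γ : Matrix (Fin 2) (Fin 2) ℤ) = (N h)ᵀ := by
    intro h hh
    refine ⟨tinv 2 (Lattice.toGL e h⁻¹), ⟨_, ⟨h⁻¹, H.inv_mem hh, rfl⟩, rfl⟩, ?_⟩
    change ((Lattice.toGL e h⁻¹)⁻¹ : Matrix.GeneralLinearGroup (Fin 2) ℤ).valᵀ = (Lattice.toGL e h).valᵀ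
    rw [map_inv, inv_inv]
  obtain ⟨v, hv0, hv⟩ := Groth.Agent.S15163.result Γ d hd w hw (by
    intro γ hγ
    obtain ⟨h, hh, hγh⟩ := hΓ γ hγ
    rw [hγh]
    exact hfix₀ h hh)
  have hinv : ∀ h ∈ H, ∀ m, pairHom e v (h m) = pairHom e v m := by
    intro h hh m
    obtain ⟨γ, hγ, hγh⟩ := hΓ' h hh
    apply Multiplicative.toAdd.injective
    change v ⬝ᵥ (Multiplicative.toAdd (e (h m))) = v ⬝ᵥ (Multiplicative.toAdd (e m))
    rw [hN, ← hγh, hv γ hγ]
  have hne' : ∃ m, pairHom e v m ≠ 1 := by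
    by_contra hcon
    push Not at hcon
    apply hv0
    ext i
    have h1 := congrArg Multiplicative.toAdd (hcon (b i))
    change v ⬝ᵥ (Multiplicative.toAdd (e (b i))) = 0 at h1
    rwa [hb, dotProduct_single, mul_one] at h1
  obtain ⟨c, ψ, hc, hs, hψ⟩ := Lattice.exists_surjective (pairHom e v) hne'
  refine ⟨ψ, hs, fun h hh m => ?_⟩
  apply Multiplicative.toAdd.injective
  apply mul_left_cancel₀ hc
  rw [← hψ, ← hψ, hinv h hh]

open MonObj GrpObj

variable {K : Type u} [Field K]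

/-- **Points of order `> 6` of a two-dimensional torus give a split subtorus.** -/
theorem exists_mono_Gm
    (d : ℕ) (hd : 6 < d) (ζ : K) (hζ : IsPrimitiveRoot ζ d)
    (T : Over (Spec (CommRingCat.of K))) [GrpObj T]
    (hT : ∃ (L : Type u) (_ : Field L) (_ : Algebra K L),
      Red.IsSplitTorusWith (Fin 2 → ℤ) (Red.bc (Spec.map (CommRingCat.ofHom (algebraMap K L))) T))
    (x : 𝟙_ (Over (Spec (CommRingCat.of K))) ⟶ T) (hx : orderOf x = d) :
    ∃ i : Red.Gm (Spec (CommRingCat.of K)) ⟶ T, IsMonHom i ∧ Mono i := by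
  obtain ⟨A, _, _, e, he, L, _, _, hfin, hgal, ⟨g⟩⟩ := exists_data T hT
  have hd0 : 0 < d := by omega
  let y := ptsHom e x
  have hy : orderOf y = d := by rw [← hx]; exact orderOf_injective (ptsHom e) (ptsHom_injective e) x
  let θ := TorusAlg.theta g y
  let ζL : L := algebraMap K L ζ
  have hζL : IsPrimitiveRoot ζL d := hζ.map_of_injective (algebraMap K L).injective
  have hθd : ∀ m, θ m ^ d = 1 := by
    intro m
    rw [← TorusAlg.theta_pow, ← hy, pow_orderOf_eq_one, TorusAlg.theta_one]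
  have : NeZero d := ⟨hd0.ne'⟩
  let H : Subgroup (MulAut (Mu.{u} 2)) := (TorusAlg.actHom g).range
  have hHfin : Finite H := Finite.of_surjective (TorusAlg.actHom g).rangeRestrict
    (TorusAlg.actHom g).rangeRestrict_surjective
  have hθH : ∀ h ∈ H, ∀ m, θ (h m) = θ m := by
    rintro _ ⟨σ, rfl⟩ m
    change TorusAlg.theta g y (TorusAlg.actHom g σ m) = TorusAlg.theta g y m
    rw [TorusAlg.theta_act]
    obtain ⟨k, _, hk⟩ := hζL.eq_pow_of_pow_eq_one (hθd m)
    change _ = TorusAlg.theta g y m at hk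
    rw [← hk, map_pow]
    change σ (algebraMap K L ζ) ^ k = _
    rw [AlgEquiv.commutes]
  have hne : ∀ k : ℕ, 0 < k → k < d → ∃ m, θ m ^ k ≠ 1 := by
    intro k hk1 hk2
    by_contra hcon
    push Not at hcon
    have h1 : y ^ k = 1 := by
      apply TorusAlg.theta_injective g
      intro m
      rw [TorusAlg.theta_pow, TorusAlg.theta_one]
      exact hcon m
    have h2 := orderOf_dvd_of_pow_eq_one h1
    rw [hy] at h2
    exact absurd (Nat.le_of_dvd hk1 h2) (not_le.mpr hk2)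
  obtain ⟨ψ, hψs, hψ⟩ := exists_psi (MulEquiv.ulift : Mu.{u} 2 ≃* _) d hd ζL hζL θ hθd H hθH hne
  have hψ' : ∀ (σ : L ≃ₐ[K] L) m, ψ (TorusAlg.actHom g σ m) = ψ m := fun σ m => hψ _ ⟨σ, rfl⟩ m
  exact exists_mono_of_surjective e (TorusDesc.fb g ψ hψ') (TorusDesc.fb_surjective g ψ hψ' hψs)

theorem main (hK : ∀ n : ℕ, 0 < n → (X ^ n - 1 : K[X]).Splits)
    (T : Over (Spec (CommRingCat.of K))) [GrpObj T]
    (hT : ∃ (L : Type u) (_ : Field L) (_ : Algebra K L),
      Red.IsSplitTorusWith (Fin 2 → ℤ) (Red.bc (Spec.map (CommRingCat.ofHom (algebraMap K L))) T))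
    (haniso : ∀ i : Red.Gm (Spec (CommRingCat.of K)) ⟶ T, IsMonHom i → Mono i → False) :
    (∀ x : 𝟙_ (Over (Spec (CommRingCat.of K))) ⟶ T, IsOfFinOrder x → orderOf x ≤ 6) ∧
    (∀ G : Subgroup (𝟙_ (Over (Spec (CommRingCat.of K))) ⟶ T), Finite G → Nat.card G ≤ 36) := by
  obtain ⟨A, _, _, e, he, L, _, _, hfin, hgal, ⟨g⟩⟩ := exists_data T hT
  have h1 : ∀ x : 𝟙_ (Over (Spec (CommRingCat.of K))) ⟶ T, IsOfFinOrder x → orderOf x ≤ 6 := by
    intro x hx
    have hord : orderOf (ptsHom e x) = orderOf x := orderOf_injective (ptsHom e) (ptsHom_injective e) x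
    have h2 : ((orderOf x : ℕ) : K) ≠ 0 := by
      rw [← hord]
      exact TorusAniso.orderOf_ne_zero g _ (MonoidHom.isOfFinOrder _ hx)
    by_contra hcon
    push Not at hcon
    obtain ⟨ζ, hζ⟩ := TorusAniso.exists_primitiveRoot hK (orderOf x) hx.orderOf_pos h2
    obtain ⟨i, hi1, hi2⟩ := exists_mono_Gm (orderOf x) hcon ζ hζ T hT x rfl
    exact haniso i hi1 hi2
  refine ⟨h1, fun G hG => ?_⟩
  -- `G` is commutative
  let ρ : G →* WithConv (A →ₐ[K] K) := (ptsHom e).comp G.subtype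
  have hρ : Function.Injective ρ := (ptsHom_injective e).comp Subtype.val_injective
  have hcomm : ∀ a b : G, a * b = b * a := by
    intro a b
    apply hρ
    apply TorusAlg.theta_injective g
    intro m
    rw [map_mul, map_mul, TorusAlg.theta_mul, TorusAlg.theta_mul, mul_comm]
  let _ : CommGroup G := { (inferInstance : Group G) with mul_comm := hcomm }
  have hexp : Monoid.ExponentExists G := Monoid.ExponentExists.of_finite
  obtain ⟨x, hx⟩ := Monoid.exists_orderOf_eq_exponent hexp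
  have hle := h1 (x : 𝟙_ (Over (Spec (CommRingCat.of K))) ⟶ T)
    (by
      have := isOfFinOrder_of_finite x
      exact MonoidHom.isOfFinOrder G.subtype this)
  have hE : 0 < Monoid.exponent G := Nat.pos_of_ne_zero hexp.exponent_ne_zero
  have h3 := TorusAniso.card_le g G ρ hρ (Monoid.exponent G) hE (fun z => Monoid.pow_exponent_eq_one z)
  have h4 : Monoid.exponent G ≤ 6 := by
    rw [← hx, ← Subgroup.orderOf_coe]
    exact hle
  calc Nat.card G ≤ Monoid.exponent G ^ 2 := h3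
    _ ≤ 6 ^ 2 := Nat.pow_le_pow_left h4 2
    _ = 36 := by norm_num

end K843.TorusRank2
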