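import Mathlib.Algebra.Central.Defs
import Mathlib.Algebra.CharP.Defs
import Mathlib.Algebra.Polynomial.Splits
import Mathlib.FieldTheory.Separable
import Mathlib.LinearAlgebra.FiniteDimensional.Defs
import Mathlib.GroupTheory.Index
import Mathlib.GroupTheory.FiniteAbelian.Basic
import Mathlib.Algebra.Group.Subgroup.Basic
import Mathlib.Algebra.CharP.Lemmas
import Mathlib.Algebra.CharP.Algebra
import Mathlib.RingTheory.IntegralDomain
import Mathlib.FieldTheory.Finite.Basic

/-!
# Unbounded finite subgroups from a purely inseparable element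
-/

set_option autoImplicit false
open Polynomial

namespace K843.Unbounded

universe u v

/-- A field containing all roots of unity is infinite. -/
theorem infinite_of_splits (K : Type u) [Field K] (hK : ∀ n : ℕ, 0 < n → (X ^ n - 1 : K[X]).Splits) :
    Infinite K := by
  by_contra hfin
  rw [not_infinite_iff_finite] at hfin
  classical
  have := Fintype.ofFinite K
  -- take `n = |K| ^ 1 + 1`, which is invertible in `K`.
  set q := Fintype.card K with hq
  have hn : ((q + 1 : ℕ) : K) ≠ 0 := by
    have : (q : K) = 0 := FiniteField.cast_card_eq_zero K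
    push_cast
    rw [this, zero_add]; exact one_ne_zero
  have hsep : (X ^ (q + 1) - 1 : K[X]).Separable := by
    rw [← C_1]
    exact separable_X_pow_sub_C 1 hn one_ne_zero
  have hs := hK (q + 1) (Nat.succ_pos _)
  have h1 : (X ^ (q + 1) - 1 : K[X]).roots.card = q + 1 := by
    rw [← hs.natDegree_eq_card_roots, ← C_1, natDegree_X_pow_sub_C]
  have h2 : (X ^ (q + 1) - 1 : K[X]).roots.toFinset.card = q + 1 := by
    rw [Multiset.toFinset_card_of_nodup (nodup_roots hsep), h1]
  have h3 : (X ^ (q + 1) - 1 : K[X]).roots.toFinset.card ≤ q := Finset.card_le_univ _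
  omega

theorem finite_quotient {G : Type v} [Group G] (U : Subgroup G) [U.Normal] (F : Set G) (hF : F.Finite)
    (hcomm : ∀ x ∈ F, ∀ y ∈ F, x * y = y * x) (p : ℕ) (hp : 0 < p)
    (hpow : ∀ x ∈ F, x ^ p ∈ U) : Finite (Subgroup.closure F ⧸ U.subgroupOf (Subgroup.closure F)) := by
  let _ : CommGroup (Subgroup.closure F) := Subgroup.closureCommGroupOfComm hcomm
  have hpow' : ∀ x : Subgroup.closure F, (x : G) ^ p ∈ U := by
    rintro ⟨x, hx⟩
    change x ^ p ∈ U
    induction hx using Subgroup.closure_induction with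
    | mem x hx => exact hpow x hx
    | one => rw [one_pow]; exact U.one_mem
    | mul x y hx hy h1 h2 =>
      have : (x * y) ^ p = x ^ p * y ^ p := by
        have h3 := mul_pow (⟨x, hx⟩ : Subgroup.closure F) ⟨y, hy⟩ p
        exact congrArg Subtype.val h3
      rw [this]; exact U.mul_mem h1 h2
    | inv x hx h1 => rw [inv_pow]; exact U.inv_mem h1
  have : Group.FG (Subgroup.closure F) := (Group.fg_iff_subgroup_fg _).mpr ⟨hF.toFinset, by simp⟩
  have hfg : Group.FG (Subgroup.closure F ⧸ U.subgroupOf (Subgroup.closure F)) := inferInstance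
  refine CommGroup.finite_of_fg_isMulTorsion _ ?_
  intro x
  obtain ⟨y, rfl⟩ := QuotientGroup.mk_surjective x
  rw [isOfFinOrder_iff_pow_eq_one]
  refine ⟨p, hp, ?_⟩
  rw [← QuotientGroup.mk_pow, QuotientGroup.eq_one_iff]
  exact hpow' y

theorem main (K : Type u) [Field K] (p : ℕ) [Fact p.Prime] [CharP K p]
    (hK : ∀ n : ℕ, 0 < n → (X ^ n - 1 : K[X]).Splits)
    (A : Type v) [DivisionRing A] [Algebra K A]
    (w : A) (hw : w ^ p ∈ (algebraMap K A).range) (hwK : w ∉ (algebraMap K A).range) (N : ℕ) :
    ∃ H : Subgroup Aˣ, (Units.map (algebraMap K A : K →* A)).range ≤ H ∧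
      N < ((Units.map (algebraMap K A : K →* A)).range).relIndex H := by
  classical
  have hinf := infinite_of_splits K hK
  have hpp : p.Prime := Fact.out
  have hcharA : CharP A p := charP_of_injective_algebraMap (algebraMap K A).injective p
  set U : Subgroup Aˣ := (Units.map (algebraMap K A : K →* A)).range with hU
  have hcentral : ∀ u ∈ U, ∀ a : Aˣ, a * u = u * a := by
    rintro _ ⟨k, rfl⟩ a
    ext
    simp only [Units.val_mul, Units.coe_map, MonoidHom.coe_coe]
    exact (Algebra.commutes _ _).symm
  have hnormal : U.Normal := by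
    refine ⟨fun u hu a => ?_⟩
    rw [hcentral u hu a, mul_inv_cancel_right]
    exact hu
  obtain ⟨T, hT⟩ := Infinite.exists_subset_card_eq K (N + 1)
  have hne : ∀ c : K, w + algebraMap K A c ≠ 0 := by
    intro c h
    apply hwK
    exact ⟨-c, by rw [map_neg]; exact (eq_neg_of_add_eq_zero_left h).symm⟩
  let e : K → Aˣ := fun c => Units.mk0 _ (hne c)
  have he : ∀ c, (e c : A) = w + algebraMap K A c := fun c => rfl
  let F : Set Aˣ := e '' T
  have hFfin : F.Finite := T.finite_toSet.image e
  have hcomm : ∀ x ∈ F, ∀ y ∈ F, x * y = y * x := by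
    rintro _ ⟨c, _, rfl⟩ _ ⟨d, _, rfl⟩
    ext
    rw [Units.val_mul, Units.val_mul, he, he, add_mul, mul_add, mul_add, add_mul, mul_add, mul_add,
      Algebra.commutes c w, Algebra.commutes d w, Algebra.commutes c (algebraMap K A d)]
    abel
  have hpow : ∀ x ∈ F, x ^ p ∈ U := by
    rintro _ ⟨c, _, rfl⟩
    obtain ⟨a, ha⟩ := hw
    have h1 : (e c : A) ^ p = algebraMap K A (a + c ^ p) := by
      rw [he, add_pow_char_of_commute p (Algebra.commutes c w).symm, map_add, map_pow, ha]
    have h2 : a + c ^ p ≠ 0 := by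
      intro h
      rw [h, map_zero] at h1
      exact (hne c) (pow_eq_zero_iff hpp.ne_zero |>.mp h1)
    refine ⟨Units.mk0 _ h2, ?_⟩
    ext
    rw [Units.val_pow_eq_pow_val, h1]
    rfl
  have hfinQ := finite_quotient U F hFfin hcomm p hpp.pos hpow
  refine ⟨Subgroup.closure F ⊔ U, le_sup_right, ?_⟩
  rw [Subgroup.relIndex_sup_right]
  change N < Nat.card (Subgroup.closure F ⧸ U.subgroupOf (Subgroup.closure F))
  have hcard : Nat.card T = N + 1 := by rw [Nat.card_eq_fintype_card, Fintype.card_coe, hT]
  have hmem : ∀ c : T, e c ∈ Subgroup.closure F := fun c => Subgroup.subset_closure ⟨c, c.2, rfl⟩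
  let Φ : T → (Subgroup.closure F ⧸ U.subgroupOf (Subgroup.closure F)) :=
    fun c => QuotientGroup.mk ⟨e c, hmem c⟩
  have hΦ : Function.Injective Φ := by
    intro c d hcd
    have h1 := QuotientGroup.eq.mp hcd
    rw [Subgroup.mem_subgroupOf] at h1
    obtain ⟨k, hk⟩ := h1
    have h2 : e c * Units.map (algebraMap K A : K →* A) k = e d := by
      rw [hk]; simp
    have h3 := congrArg Units.val h2
    rw [Units.val_mul, he, he] at h3
    simp only [Units.coe_map, MonoidHom.coe_coe] at h3
    rw [add_mul, ← map_mul] at h3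
    have h4 : algebraMap K A (1 - (k : K)) * w = algebraMap K A (c * k - d) := by
      rw [map_sub, map_sub, sub_mul, map_one, one_mul, Algebra.commutes (k : K) w]
      rw [← sub_eq_zero] at h3 ⊢
      rw [← neg_eq_zero, ← h3]
      abel
    by_cases hk1 : (k : K) = 1
    · rw [hk1, sub_self, map_zero, zero_mul, mul_one] at h4
      have h5 := (FaithfulSMul.algebraMap_injective K A) (h4.symm.trans (map_zero _).symm)
      exact Subtype.ext (sub_eq_zero.mp h5)
    · exfalso
      have h5 : (1 - (k : K)) ≠ 0 := fun h => hk1 (sub_eq_zero.mp h).symm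
      apply hwK
      refine ⟨(1 - (k : K))⁻¹ * (c * k - d), ?_⟩
      rw [map_mul, ← h4, ← mul_assoc, ← map_mul, inv_mul_cancel₀ h5, map_one, one_mul]
  have := Nat.card_le_card_of_injective Φ hΦ
  omega

end K843.Unbounded
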